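import Cfsg.Agent.Lib.BenderSuzuki.Wrappers.Setup
import Cfsg.Agent.Lib.BNPair.Basic

/-!
# S0349 from the theorem

A strongly split rank-one BN-pair of odd index with `B ⊓ N` of odd order is a split family on the
cosets of `B`.
-/

set_option autoImplicit false
set_option linter.style.haveILetI false

namespace Cfsg.Agent.Lib.BenderSuzuki.Wrappers

open MulAction Cfsg.Agent.Lib.BNPair.Basic

universe u

variable {G : Type u} [Group G]

/-- The conjugate of `U` belonging to a coset of `B`. -/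
noncomputable def famOf (B U : Subgroup G) (c : G ⧸ B) : Subgroup G :=
  U.map (MulAut.conj (Quotient.out c)).toMonoidHom

theorem conj_mem_of_normal {B U : Subgroup G} (hUB : U ≤ B) (hn : (U.subgroupOf B).Normal)
    {b x : G} (hb : b ∈ B) (hx : x ∈ U) : b * x * b⁻¹ ∈ U :=
  Subgroup.mem_subgroupOf.1 (hn.conj_mem ⟨x, hUB hx⟩ (Subgroup.mem_subgroupOf.2 hx) ⟨b, hb⟩)

theorem mem_famOf {B U : Subgroup G} (hUB : U ≤ B) (hn : (U.subgroupOf B).Normal) {g x : G} :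
    x ∈ famOf B U (g : G ⧸ B) ↔ g⁻¹ * x * g ∈ U := by
  obtain ⟨⟨b, hb⟩, hout⟩ := QuotientGroup.mk_out_eq_mul B g
  rw [famOf, Subgroup.mem_map_equiv, hout, MulAut.conj_symm_apply]
  change (g * b)⁻¹ * x * (g * b) ∈ U ↔ _
  constructor
  · intro h
    have := conj_mem_of_normal hUB hn hb h
    rwa [show b * ((g * b)⁻¹ * x * (g * b)) * b⁻¹ = g⁻¹ * x * g by group] at this
  · intro h
    have := conj_mem_of_normal hUB hn (inv_mem hb) h
    rwa [show b⁻¹ * (g⁻¹ * x * g) * b⁻¹⁻¹ = (g * b)⁻¹ * x * (g * b) by group] at this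

theorem exists_mul_of_split {B U H : Subgroup G} (hUB : U ≤ B) (hn : (U.subgroupOf B).Normal)
    (hHB : H ≤ B) (hsup : U ⊔ H = B) {x : G} (hx : x ∈ B) :
    ∃ u ∈ U, ∃ h ∈ H, x = u * h := by
  haveI := hn
  have e : U.subgroupOf B ⊔ H.subgroupOf B = ⊤ := by
    rw [← Subgroup.subgroupOf_sup hUB hHB, hsup, Subgroup.subgroupOf_self]
  have hmem : (⟨x, hx⟩ : B) ∈ U.subgroupOf B ⊔ H.subgroupOf B := by
    rw [e]; exact Subgroup.mem_top _
  obtain ⟨u, hu, h, hh, he⟩ := Subgroup.mem_sup_of_normal_left.1 hmem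
  exact ⟨u, hu, h, hh, (congrArg Subtype.val he).symm⟩

/-- The split family of a BN-pair of rank one. -/
theorem split_of_bnPair [Finite G] [IsSimpleGroup G] (P : Cfsg.BNPair G) (hrank : P.rank = 1)
    (U : Subgroup G) (hUB : U ≤ P.B) (hUn : (U.subgroupOf P.B).Normal)
    (hUnil : Group.IsNilpotent U) (hsplit : U ⊔ (P.B ⊓ P.N) = P.B) (hind : Odd P.B.index)
    (hH : Odd (Nat.card ↥(P.B ⊓ P.N))) : Split G (G ⧸ P.B) (famOf P.B U) := by
  obtain ⟨s, hS⟩ := rank_one_exists hrank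
  have hsS : s ∈ P.S := by rw [hS]; exact Set.mem_singleton s
  have hsB := not_mem_B hsS
  have hHB : P.B ⊓ P.N ≤ P.B := inf_le_left
  have hdec := fun {x : G} (hx : x ∈ P.B) => exists_mul_of_split hUB hUn hHB hsplit hx
  -- every coset other than `B` is `u * s * B`
  have hcos : ∀ g, g ∉ P.B → ∃ u ∈ U, (u * s)⁻¹ * g ∈ P.B := by
    intro g hg
    obtain ⟨x, hx, y, hy, rfl⟩ := mem_cell_iff.1 (rank_one_mem_cell hS hg)
    obtain ⟨u, hu, h, hh, rfl⟩ := hdec hx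
    refine ⟨u, hu, ?_⟩
    rw [show (u * s)⁻¹ * (u * h * s * y) = s⁻¹ * h * s * y by group]
    exact P.B.mul_mem (conj_B' (S_subset_N hsS) hh.1 hh.2) hy
  have hevenG : Even (Nat.card G) := by
    by_contra hodd
    rw [Nat.not_even_iff_odd] at hodd
    obtain ⟨j, hj⟩ : Odd (orderOf s) := hodd.of_dvd_nat (orderOf_dvd_natCard s)
    refine hsB ?_
    have e : s = (s * s) ^ (j + 1) := by
      rw [← sq, ← pow_mul, show 2 * (j + 1) = (2 * j + 1) + 1 by ring, pow_succ, ← hj,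
        pow_orderOf_eq_one, one_mul]
    rw [e]
    exact pow_mem (P.sq_mem s hsS) _
  have htwo : ∀ x ∈ P.B, ∀ k : ℕ, x ^ (2 ^ k) = 1 → x ∈ U := by
    intro x hx k hk
    haveI := hUn
    obtain ⟨u, hu, h, hh, rfl⟩ := hdec hx
    have hone : (QuotientGroup.mk' (U.subgroupOf P.B)) ⟨h, hh.1⟩ = 1 := by
      have e : (QuotientGroup.mk' (U.subgroupOf P.B)) ⟨u * h, hx⟩ =
          (QuotientGroup.mk' (U.subgroupOf P.B)) ⟨h, hh.1⟩ := by
        have h1 : (QuotientGroup.mk' (U.subgroupOf P.B)) ⟨u, hUB hu⟩ = 1 :=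
          (QuotientGroup.eq_one_iff _).2 (Subgroup.mem_subgroupOf.2 hu)
        rw [show (⟨u * h, hx⟩ : P.B) = ⟨u, hUB hu⟩ * ⟨h, hh.1⟩ from rfl, map_mul, h1, one_mul]
      refine orderOf_eq_one_iff.1 (Nat.eq_one_of_dvd_coprimes
        (Nat.Coprime.pow_left k (Nat.coprime_two_left.2 hH)) ?_ ?_)
      · rw [← e]
        apply orderOf_dvd_of_pow_eq_one
        rw [← map_pow, ← map_one (QuotientGroup.mk' (U.subgroupOf P.B))]
        exact congrArg _ (Subtype.ext hk)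
      · refine (orderOf_map_dvd _ _).trans ?_
        rw [Subgroup.orderOf_mk]
        exact Subgroup.orderOf_dvd_natCard _ hh
    exact mul_mem hu (Subgroup.mem_subgroupOf.1 ((QuotientGroup.eq_one_iff _).1 hone))
  have hevenB : Even (Nat.card P.B) := by
    have := P.B.card_mul_index
    rcases Nat.even_or_odd (Nat.card P.B) with h | h
    · exact h
    · exact absurd (this ▸ h.mul hind) (Nat.not_odd_iff_even.2 hevenG)
  have hevenU : Even (Nat.card U) := by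
    obtain ⟨⟨x, hx⟩, hxo⟩ := exists_prime_orderOf_dvd_card' 2 (even_iff_two_dvd.1 hevenB)
    rw [Subgroup.orderOf_mk] at hxo
    have := Subgroup.orderOf_dvd_natCard U (htwo x hx 1 (by rw [pow_one, ← hxo, pow_orderOf_eq_one]))
    exact even_iff_two_dvd.2 (hxo ▸ this)
  have hcard : ∀ c : G ⧸ P.B, Nat.card (famOf P.B U c) = Nat.card U := fun c =>
    Subgroup.card_map_of_injective (MulAut.conj (Quotient.out c)).injective
  constructor
  · exact rank_one_pretransitive hrank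
  · constructor
    intro g g' h
    have hcore : g⁻¹ * g' ∈ P.B.normalCore := by
      intro x
      have h' := h ((x⁻¹ : G) : G ⧸ P.B)
      have := QuotientGroup.eq.1 (show ((g * x⁻¹ : G) : G ⧸ P.B) = ((g' * x⁻¹ : G) : G ⧸ P.B) from h')
      rwa [show (g * x⁻¹)⁻¹ * (g' * x⁻¹) = x * (g⁻¹ * g') * x⁻¹ by group] at this
    rcases (inferInstance : P.B.normalCore.Normal).eq_bot_or_eq_top with h1 | h1
    · rw [h1, Subgroup.mem_bot] at hcore
      exact inv_mul_eq_one.1 hcore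
    · exact absurd (P.B.normalCore_le (h1 ▸ Subgroup.mem_top s)) hsB
  · infer_instance
  · intro c x hx
    obtain ⟨g, rfl⟩ := QuotientGroup.mk_surjective c
    rw [mem_famOf hUB hUn] at hx
    refine QuotientGroup.eq.2 ?_
    change (x * g)⁻¹ * g ∈ P.B
    rw [show (x * g)⁻¹ * g = (g⁻¹ * x * g)⁻¹ by group]
    exact inv_mem (hUB hx)
  · intro g c x hx
    obtain ⟨k, rfl⟩ := QuotientGroup.mk_surjective c
    rw [mem_famOf hUB hUn] at hx
    rw [MulAction.Quotient.smul_mk, smul_eq_mul, mem_famOf hUB hUn]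
    rwa [show (g * k)⁻¹ * (g * x * g⁻¹) * (g * k) = k⁻¹ * x * k by group]
  · intro a b c hb hc
    obtain ⟨k, rfl⟩ := QuotientGroup.mk_surjective a
    obtain ⟨g₁, rfl⟩ := QuotientGroup.mk_surjective b
    obtain ⟨g₂, rfl⟩ := QuotientGroup.mk_surjective c
    have h1 : k⁻¹ * g₁ ∉ P.B := fun h => hb (QuotientGroup.eq.2 h).symm
    have h2 : k⁻¹ * g₂ ∉ P.B := fun h => hc (QuotientGroup.eq.2 h).symm
    obtain ⟨u₁, hu₁, e₁⟩ := hcos _ h1
    obtain ⟨u₂, hu₂, e₂⟩ := hcos _ h2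
    refine ⟨k * (u₂ * u₁⁻¹) * k⁻¹, ?_, ?_⟩
    · rw [mem_famOf hUB hUn]
      simpa [mul_assoc] using mul_mem hu₂ (inv_mem hu₁)
    · rw [MulAction.Quotient.smul_mk, smul_eq_mul, QuotientGroup.eq]
      rw [show (k * (u₂ * u₁⁻¹) * k⁻¹ * g₁)⁻¹ * g₂ =
        ((u₁ * s)⁻¹ * (k⁻¹ * g₁))⁻¹ * ((u₂ * s)⁻¹ * (k⁻¹ * g₂)) by group]
      exact P.B.mul_mem (inv_mem e₁) e₂
  · intro c
    haveI := hUnil
    exact Group.nilpotent_of_mulEquiv (U.equivMapOfInjective _ (MulAut.conj (Quotient.out c)).injective)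
  · intro c x k hxc hk
    obtain ⟨g, rfl⟩ := QuotientGroup.mk_surjective c
    rw [mem_famOf hUB hUn]
    rw [MulAction.Quotient.smul_mk, smul_eq_mul, QuotientGroup.eq] at hxc
    refine htwo _ ?_ k ?_
    · have := inv_mem hxc
      rwa [show ((x * g)⁻¹ * g)⁻¹ = g⁻¹ * x * g by group] at this
    · have e : g⁻¹ * x * g = g⁻¹ * x * g⁻¹⁻¹ := by rw [inv_inv]
      rw [e, conj_pow, hk]
      group
  · exact fun c => (hcard c).symm ▸ hevenU
  · exact (Subgroup.index_eq_card P.B) ▸ hind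
  · exact ⟨(1 : G), (s : G), fun h => hsB (by simpa using QuotientGroup.eq.1 h)⟩

/-- The statement of S0349. -/
theorem bnPair_outcome (hmain : PropMain.{u, u}) [Finite G] [IsSimpleGroup G]
    (P : Cfsg.BNPair G) (hrank : P.rank = 1) (U : Subgroup G) (hUB : U ≤ P.B)
    (hUn : (U.subgroupOf P.B).Normal) (hUnil : Group.IsNilpotent U)
    (hsplit : U ⊔ (P.B ⊓ P.N) = P.B) (hind : Odd P.B.index)
    (hH : Odd (Nat.card ↥(P.B ⊓ P.N))) :
    (∃ (F : Type) (_ : Field F) (_ : Fintype F), (∃ n : ℕ, Fintype.card F = 2 ^ n) ∧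
        Nonempty (G ≃* Matrix.ProjectiveSpecialLinearGroup (Fin 2) F)) ∨
      Cfsg.IsSuzuki G ∨
      (∃ (F : Type) (_ : Field F) (_ : Fintype F) (n : ℕ), 2 ≤ n ∧ Fintype.card F = (2 ^ n) ^ 2 ∧
        Nonempty (G ≃* Cfsg.PSU 3 F (2 ^ n))) := by
  rcases (split_of_bnPair P hrank U hUB hUn hUnil hsplit hind hH).outcome hmain hmain with
    ⟨F, i1, i2, ⟨n, -, hn⟩, h⟩ | h | h
  · exact Or.inl ⟨F, i1, i2, ⟨n, hn⟩, h⟩
  · exact Or.inr (Or.inl (isSuzuki_of_iso h))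
  · exact Or.inr (Or.inr h)

end Cfsg.Agent.Lib.BenderSuzuki.Wrappers
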