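import Cfsg.Agent.Lib.BenderSuzuki.Interface
import Cfsg.Agent.Lib.LieTwisted.SuzukiStructure

/-!
# Conclusions drawn from `Good`

In a simple group the normal subgroup of odd index is everything, and `Sz(q)` has Suzuki order.
-/

set_option autoImplicit false

namespace Cfsg.Agent.Lib.BenderSuzuki.Wrappers

universe u v

theorem isSuzuki_of_iso {G : Type u} [Group G] (h : Cfsg.Lie.IsoSuzuki G) : Cfsg.IsSuzuki G := by
  obtain ⟨F, _, _, m, hm, hcard, ⟨e⟩⟩ := h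
  have hF : LieTwisted.Suzuki.IsSzField F m := ⟨hcard⟩
  let e' := e.trans (LieTwisted.Suzuki.szEquiv hF hm).symm
  haveI := LieTwisted.Suzuki.IsSzField.isSimple hF hm
  refine ⟨e'.isSimpleGroup, m, hm, ?_⟩
  rw [Nat.card_congr e'.toEquiv, LieTwisted.Suzuki.IsSzField.card_group hF hm, hcard]

/-- The three kinds of groups that occur. -/
def Outcome (G : Type u) [Group G] : Prop :=
  (∃ (F : Type) (_ : Field F) (_ : Fintype F), (∃ n : ℕ, 2 ≤ n ∧ Fintype.card F = 2 ^ n) ∧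
      Nonempty (G ≃* Matrix.ProjectiveSpecialLinearGroup (Fin 2) F)) ∨
    Cfsg.Lie.IsoSuzuki G ∨
    (∃ (F : Type) (_ : Field F) (_ : Fintype F) (n : ℕ), 2 ≤ n ∧
      Fintype.card F = (2 ^ n) ^ 2 ∧ Nonempty (G ≃* Cfsg.PSU 3 F (2 ^ n)))

theorem exists_normal_outcome {G : Type u} {Ω : Type v} [Group G] [MulAction G Ω] {a : Ω} {t : G}
    {Q : Subgroup G} (h : Good G Ω a t Q) :
    ∃ L : Subgroup G, L.Normal ∧ Odd L.index ∧ t ∈ L ∧ Outcome L := by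
  obtain ⟨-, L, hN, hodd, -, ht, hcase⟩ := h
  refine ⟨L, hN, hodd, ht, ?_⟩
  rcases hcase with ⟨-, -, F, i1, i2, hF, ⟨n, hn, hq⟩, hiso⟩ | ⟨-, -, hiso⟩ |
    ⟨-, -, -, F, i1, i2, n, hn, -, hF, hiso⟩
  · exact Or.inl ⟨F, i1, i2, ⟨n, hn, hF.trans hq⟩, hiso⟩
  · exact Or.inr (Or.inl hiso)
  · exact Or.inr (Or.inr ⟨F, i1, i2, n, hn, hF, hiso⟩)

theorem outcome_congr {G : Type u} {H : Type v} [Group G] [Group H] (e : G ≃* H) (h : Outcome H) :
    Outcome G := by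
  rcases h with ⟨F, i1, i2, hn, ⟨f⟩⟩ | ⟨F, i1, i2, m, hm, hF, ⟨f⟩⟩ | ⟨F, i1, i2, n, hn, hF, ⟨f⟩⟩
  · exact Or.inl ⟨F, i1, i2, hn, ⟨e.trans f⟩⟩
  · exact Or.inr (Or.inl ⟨F, i1, i2, m, hm, hF, ⟨e.trans f⟩⟩)
  · exact Or.inr (Or.inr ⟨F, i1, i2, n, hn, hF, ⟨e.trans f⟩⟩)

/-- A simple group with a set-up is one of the groups of the theorem. -/
theorem outcome_of_simple (hmain : PropMain.{u, v}) {G : Type u} {Ω : Type v} [Group G]
    [MulAction G Ω] [Finite G] [IsSimpleGroup G] {a : Ω} {t : G} {Q : Subgroup G}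
    (h : Hyp G Ω a t Q) : Outcome G := by
  obtain ⟨L, hN, -, ht, hout⟩ := exists_normal_outcome (hmain G Ω a t Q h)
  obtain rfl | rfl := hN.eq_bot_or_eq_top
  · exact absurd (Subgroup.mem_bot.1 ht) h.setup.ne_one
  · exact outcome_congr Subgroup.topEquiv.symm hout

end Cfsg.Agent.Lib.BenderSuzuki.Wrappers
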