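import Cfsg.Agent.Lib.BenderSuzuki.Wrappers.Count

/-!
# The classes `axis * (U a ⊓ G_c)`

If `U a ⊓ G_b` is non-trivial it is elementary abelian, and the groups `cls a c` fall into `q`
classes of `q²` points each.
-/

set_option autoImplicit false
set_option linter.style.haveILetI false

namespace Cfsg.Agent.Lib.BenderSuzuki.Wrappers

open MulAction

universe u v

variable {G : Type u} {Ω : Type v} [Group G] [MulAction G Ω] {U : Ω → Subgroup G}

/-- The part of `U a` fixing `c`. -/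
abbrev line (U : Ω → Subgroup G) (a c : Ω) : Subgroup G := U a ⊓ stabilizer G c

/-- The product of the axis and `line U a c`. -/
def cls (U : Ω → Subgroup G) (a c : Ω) : Subgroup G where
  carrier := {x | ∃ z ∈ axis U a, ∃ s ∈ line U a c, x = z * s}
  one_mem' := ⟨1, one_mem _, 1, one_mem _, (one_mul 1).symm⟩
  mul_mem' := by
    rintro _ _ ⟨z, hz, s, hs, rfl⟩ ⟨z', hz', s', hs', rfl⟩
    refine ⟨z * z', mul_mem hz hz', s * s', mul_mem hs hs', ?_⟩
    rw [mul_assoc z s, ← mul_assoc s, ← hz'.2.2 s hs.1]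
    group
  inv_mem' := by
    rintro _ ⟨z, hz, s, hs, rfl⟩
    exact ⟨z⁻¹, inv_mem hz, s⁻¹, inv_mem hs, by
      rw [mul_inv_rev, (inv_mem hz : z⁻¹ ∈ axis U a).2.2 s⁻¹ (inv_mem hs.1)]⟩

theorem mem_cls {a c : Ω} {x : G} :
    x ∈ cls U a c ↔ ∃ z ∈ axis U a, ∃ s ∈ line U a c, x = z * s := Iff.rfl

theorem axis_le_cls {a c : Ω} : axis U a ≤ cls U a c :=
  fun z hz => ⟨z, hz, 1, one_mem _, (mul_one z).symm⟩

theorem line_le_cls {a c : Ω} : line U a c ≤ cls U a c :=
  fun s hs => ⟨1, one_mem _, s, hs, (one_mul s).symm⟩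

theorem cls_le {a c : Ω} : cls U a c ≤ U a := by
  rintro _ ⟨z, hz, s, hs, rfl⟩
  exact mul_mem hz.1 hs.1

/-- The elements of `U a` central modulo the axis. -/
def second (U : Ω → Subgroup G) (a : Ω) : Subgroup G where
  carrier := {x | x ∈ U a ∧ ∀ u ∈ U a, x * u * x⁻¹ * u⁻¹ ∈ axis U a}
  one_mem' := ⟨one_mem _, fun u _ => by simp⟩
  mul_mem' := by
    rintro x y ⟨hx, hxc⟩ ⟨hy, hyc⟩
    refine ⟨mul_mem hx hy, fun u hu => ?_⟩
    have h1 := hyc u hu
    have h2 := hxc u hu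
    have e : x * y * u * (x * y)⁻¹ * u⁻¹ =
        (y * u * y⁻¹ * u⁻¹) * (x * u * x⁻¹ * u⁻¹) := by
      calc x * y * u * (x * y)⁻¹ * u⁻¹
          = x * (y * u * y⁻¹ * u⁻¹) * x⁻¹ * (x * u * x⁻¹ * u⁻¹) := by group
        _ = _ := by rw [← h1.2.2 x hx, mul_inv_cancel_right]
    rw [e]
    exact mul_mem h1 h2
  inv_mem' := by
    rintro x ⟨hx, hxc⟩
    refine ⟨inv_mem hx, fun u hu => ?_⟩
    have h1 := inv_mem (hxc u hu)
    have e : x⁻¹ * u * x⁻¹⁻¹ * u⁻¹ = (x * u * x⁻¹ * u⁻¹)⁻¹ := by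
      calc x⁻¹ * u * x⁻¹⁻¹ * u⁻¹ = x⁻¹ * (x * u * x⁻¹ * u⁻¹)⁻¹ * x := by group
        _ = _ := by rw [← h1.2.2 x⁻¹ (inv_mem hx), inv_mul_cancel_right]
    rw [e]
    exact h1

/-- A non-trivial subgroup of a 2-group contains an involution that is a power of any given
non-trivial element. -/
theorem exists_invol_pow {P : Subgroup G} (hP : IsPGroup 2 P) {x : G} (hx : x ∈ P) (hx1 : x ≠ 1) :
    ∃ n : ℕ, x ^ n ≠ 1 ∧ x ^ n * x ^ n = 1 := by
  obtain ⟨k, hk⟩ := hP ⟨x, hx⟩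
  have hk' : x ^ (2 ^ k) = 1 := congrArg Subtype.val hk
  obtain ⟨j, -, hj⟩ := (Nat.dvd_prime_pow Nat.prime_two).1 (orderOf_dvd_of_pow_eq_one hk')
  have hj0 : j ≠ 0 := fun h => hx1 (orderOf_eq_one_iff.1 (by rw [hj, h, pow_zero]))
  refine ⟨2 ^ (j - 1), pow_ne_one_of_lt_orderOf (by positivity) ?_, ?_⟩
  · rw [hj]
    exact Nat.pow_lt_pow_right (by norm_num) (by omega)
  · rw [← pow_add, show 2 ^ (j - 1) + 2 ^ (j - 1) = 2 ^ j by
      rw [← two_mul, ← pow_succ', Nat.sub_add_cancel (Nat.pos_of_ne_zero hj0)], ← hj,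
      pow_orderOf_eq_one]

namespace Split

variable (S : Split G Ω U)
include S

theorem twoFix_of_line {a c : Ω} {r : G} (hr : r ∈ line U a c) (hca : c ≠ a) (hr2 : r * r = 1)
    (hr1 : r ≠ 1) : TwoFix Ω r :=
  ⟨hr2, hr1, a, c, hca.symm, S.fix hr.1, hr.2⟩

theorem line_le_other [Finite G] {a c : Ω} (h2 : ∀ e, IsPGroup 2 (U e)) :
    line U a c ≤ U c := by
  intro x hx
  obtain ⟨k, hk⟩ := h2 a ⟨x, hx.1⟩
  exact S.two_mem c x k hx.2 (congrArg Subtype.val hk)

theorem line_conj {a c : Ω} {g x : G} (hg : g • a = a) (hx : x ∈ line U a c) :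
    g * x * g⁻¹ ∈ line U a (g • c) := by
  refine Subgroup.mem_inf.2 ⟨?_, ?_⟩
  · simpa only [hg] using S.conj g a x hx.1
  · change (g * x * g⁻¹) • (g • c) = g • c
    rw [mul_smul, mul_smul, inv_smul_smul, show x • c = c from hx.2]

theorem cls_conj {a c : Ω} {g x : G} (hg : g • a = a) (hx : x ∈ cls U a c) :
    g * x * g⁻¹ ∈ cls U a (g • c) := by
  obtain ⟨z, hz, s, hs, rfl⟩ := mem_cls.1 hx
  refine mem_cls.2 ⟨g * z * g⁻¹, ?_, g * s * g⁻¹, S.line_conj hg hs, by group⟩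
  simpa only [hg] using S.axis_conj g hz

theorem cls_conj_iff {a c : Ω} {g x : G} (hg : g • a = a) :
    x ∈ cls U a (g • c) ↔ g⁻¹ * x * g ∈ cls U a c := by
  constructor
  · intro hx
    have := S.cls_conj (inv_smul_eq_iff.2 hg.symm) hx
    rwa [inv_smul_smul, inv_inv] at this
  · intro hx
    have := S.cls_conj hg hx
    rwa [show g * (g⁻¹ * x * g) * g⁻¹ = x by group] at this

theorem cls_smul_congr {a c d : Ω} {g : G} (hg : g • a = a) (h : cls U a c = cls U a d) :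
    cls U a (g • c) = cls U a (g • d) := by
  ext x
  rw [S.cls_conj_iff hg, S.cls_conj_iff hg, h]

theorem smul_ne {a c : Ω} {g : G} (hg : g • a = a) (hc : c ≠ a) : g • c ≠ a :=
  fun h => hc (MulAction.injective g (h.trans hg.symm))

theorem exists_line_invol_of [Finite G] (h2 : ∀ e, IsPGroup 2 (U e)) {a b c : Ω} (hb : b ≠ a)
    (hne : line U a b ≠ ⊥) (hc : c ≠ a) :
    ∃ r ∈ line U a c, r * r = 1 ∧ r ≠ 1 := by
  obtain ⟨u, hu, rfl⟩ := S.trans a b c hb hc
  obtain ⟨⟨x, hx⟩, hx1⟩ := Subgroup.ne_bot_iff_exists_ne_one.1 hne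
  obtain ⟨n, hn1, hn2⟩ := exists_invol_pow (h2 a) hx.1 (fun h => hx1 (Subtype.ext h))
  refine ⟨u * x ^ n * u⁻¹, S.line_conj (S.fix hu) (pow_mem hx n), ?_, ?_⟩
  · rw [show u * x ^ n * u⁻¹ * (u * x ^ n * u⁻¹) = u * (x ^ n * x ^ n) * u⁻¹ by group, hn2]; group
  · exact fun h => hn1 (conj_eq_one_iff.1 h)

variable [Finite G] (h2 : ∀ e, IsPGroup 2 (U e))
include h2

/-- The fixed points of an involution of `line U a c` other than `a` form an axis orbit. -/
theorem exists_axis_smul {a c d : Ω} {r : G} (hr : r ∈ line U a c) (hr2 : r * r = 1) (hr1 : r ≠ 1)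
    (hca : c ≠ a) (hd : r • d = d) (hda : d ≠ a) : ∃ z ∈ axis U a, z • c = d := by
  haveI := S.finiteOmega
  have hT := S.twoFix_of_line hr hca hr2 hr1
  have hfa : r • a = a := S.fix hr.1
  have hcard := (S.card_fix h2 hT hfa).1
  let f : axis U a → (fixSet Ω r \ {a} : Set Ω) := fun z => ⟨(z : G) • c, by
    change r • (z : G) • c = (z : G) • c
    rw [← mul_smul, ← S.axis_comm_invol z.2 hr2 hfa, mul_smul, show r • c = c from hr.2],
    S.smul_ne (S.axis_fix z.2) hca⟩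
  have hf : Function.Injective f := by
    intro z z' h
    have h' : (z : G) • c = (z' : G) • c := congrArg Subtype.val h
    by_contra hne
    exact hca (S.axis_free (mul_mem (inv_mem z'.2) z.2)
      (fun h1 => hne (Subtype.ext (inv_mul_eq_one.1 h1).symm))
      (by rw [mul_smul, h', inv_smul_smul]))
  have hle : Nat.card (fixSet Ω r \ {a} : Set Ω) ≤ Nat.card (axis U a) := by
    rw [Nat.card_coe_set_eq, Set.ncard_sdiff_singleton_of_mem (show a ∈ fixSet Ω r from hfa), hcard,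
      Nat.add_sub_cancel]
  obtain ⟨⟨z, hz⟩, hzd⟩ := (Function.Injective.bijective_of_nat_card_le hf hle).2 ⟨d, hd, hda⟩
  exact ⟨z, hz, congrArg Subtype.val hzd⟩

theorem mem_cls_of_fix {a c : Ω} {r u : G} (hr : r ∈ line U a c) (hr2 : r * r = 1) (hr1 : r ≠ 1)
    (hca : c ≠ a) (hu : u ∈ U a) (h : r • (u • c) = u • c) : u ∈ cls U a c := by
  obtain ⟨z, hz, hzc⟩ := S.exists_axis_smul h2 hr hr2 hr1 hca h (S.smul_ne (S.fix hu) hca)
  refine mem_cls.2 ⟨z, hz, z⁻¹ * u, Subgroup.mem_inf.2 ⟨mul_mem (inv_mem hz.1) hu, ?_⟩, by group⟩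
  change (z⁻¹ * u) • c = c
  rw [mul_smul, ← hzc, inv_smul_smul]

theorem mem_cls_of_comm {a c : Ω} {r u : G} (hr : r ∈ line U a c) (hr2 : r * r = 1) (hr1 : r ≠ 1)
    (hca : c ≠ a) (hu : u ∈ U a) (h : u * r = r * u) : u ∈ cls U a c := by
  refine S.mem_cls_of_fix h2 hr hr2 hr1 hca hu ?_
  rw [← mul_smul, ← h, mul_smul, show r • c = c from hr.2]

theorem exists_second {a b : Ω} (hb : b ≠ a) (hne : line U a b ≠ ⊥) :
    ∃ x ∈ second U a, x ∉ axis U a := by
  obtain ⟨r, hr, hr2, hr1⟩ := S.exists_line_invol_of h2 hb hne hb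
  haveI : Fact (Nat.Prime 2) := ⟨Nat.prime_two⟩
  have hcen : ∀ x ∈ U a, (∀ u ∈ U a, x * u = u * x) → x ∈ axis U a := by
    intro x hx hxc
    obtain ⟨z, hz, s, hs, rfl⟩ := mem_cls.1 (S.mem_cls_of_comm h2 hr hr2 hr1 hb hx (hxc r hr.1))
    have hsc : ∀ u ∈ U a, s * u = u * s := by
      intro u hu
      have h1 := hxc u hu
      rw [mul_assoc, ← mul_assoc u z s, ← hz.2.2 u hu, mul_assoc z u s] at h1
      exact mul_left_cancel h1
    rw [S.free hs.1 hsc hb hs.2, mul_one]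
    exact hz
  set C := Subgroup.center (U a) with hC
  have hmemC : ∀ x : U a, x ∈ C → (x : G) ∈ axis U a := fun x hx => hcen x x.2 fun u hu =>
    (congrArg Subtype.val (Subgroup.mem_center_iff.1 hx ⟨u, hu⟩)).symm
  haveI : Nontrivial ((U a) ⧸ C) := by
    refine ⟨⟨QuotientGroup.mk' C ⟨r, hr.1⟩, 1, fun h => ?_⟩⟩
    rw [← MonoidHom.mem_ker, QuotientGroup.ker_mk'] at h
    exact hb (S.axis_free (hmemC _ h) hr1 hr.2)
  haveI := S.nilp a
  haveI : Group.IsNilpotent ((U a) ⧸ C) :=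
    Group.nilpotent_of_surjective (QuotientGroup.mk' C) (QuotientGroup.mk'_surjective C)
  obtain ⟨⟨y, hy⟩, hy1⟩ :=
    Subgroup.ne_bot_iff_exists_ne_one.1 (Group.IsNilpotent.center_ne_bot (G := (U a) ⧸ C))
  obtain ⟨x, rfl⟩ := QuotientGroup.mk'_surjective C y
  refine ⟨x, ⟨x.2, fun u hu => ?_⟩, fun hxA => hy1 ?_⟩
  · refine hmemC ⟨_, mul_mem (mul_mem (mul_mem x.2 hu) (inv_mem x.2)) (inv_mem hu)⟩ ?_
    rw [← QuotientGroup.ker_mk' C, MonoidHom.mem_ker]
    have h := Subgroup.mem_center_iff.1 hy (QuotientGroup.mk' C ⟨u, hu⟩)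
    rw [show (⟨_, mul_mem (mul_mem (mul_mem x.2 hu) (inv_mem x.2)) (inv_mem hu)⟩ : U a) =
      x * ⟨u, hu⟩ * x⁻¹ * ⟨u, hu⟩⁻¹ from rfl, map_mul, map_mul, map_mul, map_inv, map_inv, ← h]
    group
  · refine Subtype.ext ((QuotientGroup.eq_one_iff x).2 (Subgroup.mem_center_iff.2 fun u => ?_))
    exact Subtype.ext (hxA.2.2 u u.2).symm

theorem card_axis_lt {a b : Ω} (hb : b ≠ a) (hne : line U a b ≠ ⊥) :
    Nat.card Ω = Nat.card (axis U a) ^ 3 + 1 ∧
      Nat.card (U a) = Nat.card (axis U a) ^ 3 * Nat.card (line U a b) := by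
  haveI := S.finiteOmega
  obtain ⟨r, hr, hr2, hr1⟩ := S.exists_line_invol_of h2 hb hne hb
  have h := (S.card_fix h2 (S.twoFix_of_line hr hb hr2 hr1) (S.fix hr.1)).2
  refine ⟨h, ?_⟩
  have horb : orbit (U a) b = ({a} : Set Ω)ᶜ := by
    ext c
    constructor
    · rintro ⟨u, rfl⟩ (h : (u : G) • b = a)
      exact hb (MulAction.injective (u : G) (h.trans (S.fix u.2).symm))
    · intro hc
      obtain ⟨u, hu, hub⟩ := S.trans a b c hb hc
      exact ⟨⟨u, hu⟩, hub⟩
  have h1 := Nat.card_congr (orbitEquivQuotientStabilizer (U a) b)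
  have h3 := Subgroup.card_eq_card_quotient_mul_card_subgroup (stabilizer (U a) b)
  rw [← h1, horb, Nat.card_coe_set_eq] at h3
  have h4 := Set.ncard_add_ncard_compl ({a} : Set Ω)
  rw [Set.ncard_singleton, h] at h4
  rw [h3]
  congr 1
  · omega
  · refine Nat.card_congr ⟨fun x => ⟨(x.1 : G), x.1.2, x.2⟩,
      fun x => ⟨⟨x, x.2.1⟩, x.2.2⟩, fun x => rfl, fun x => rfl⟩

theorem second_inter_line {a b : Ω} (hb : b ≠ a) {x : G} (hx : x ∈ second U a)
    (hxb : x ∈ line U a b) : x = 1 := by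
  by_contra hx1
  obtain ⟨n, hn1, hn2⟩ := exists_invol_pow (h2 a) hxb.1 hx1
  set i := x ^ n
  have hiS : i ∈ second U a := pow_mem hx n
  have hib : i ∈ line U a b := pow_mem hxb n
  have hne : line U a b ≠ ⊥ := fun h => hx1 (by rwa [h, Subgroup.mem_bot] at hxb)
  obtain ⟨-, hU⟩ := S.card_axis_lt h2 hb hne
  have hq := S.three_le_card_axis a
  -- the fibres of `u ↦ [i, u]` lie in cosets of `cls U a b`
  classical
  let φ : U a → axis U a := fun u => ⟨i * u * i⁻¹ * (u : G)⁻¹, hiS.2 u u.2⟩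
  let rep : axis U a → U a := fun y => if h : ∃ u, φ u = y then h.choose else 1
  let f : U a → axis U a × cls U a b := fun u => ⟨φ u, ⟨((rep (φ u) : U a) : G)⁻¹ * u, by
    have hrep : φ (rep (φ u)) = φ u := by
      have h : ∃ w, φ w = φ u := ⟨u, rfl⟩
      simp only [rep, dif_pos h]
      exact h.choose_spec
    set w : U a := rep (φ u)
    have h1 : i * (w : G) * i⁻¹ * (w : G)⁻¹ = i * (u : G) * i⁻¹ * (u : G)⁻¹ :=
      congrArg Subtype.val hrep
    refine S.mem_cls_of_comm h2 hib hn2 hn1 hb (mul_mem (inv_mem w.2) u.2) ?_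
    calc (w : G)⁻¹ * u * i
        = (w : G)⁻¹ * (i * u * i⁻¹ * (u : G)⁻¹)⁻¹ * i * u := by group
      _ = (w : G)⁻¹ * (i * w * i⁻¹ * (w : G)⁻¹)⁻¹ * i * u := by rw [h1]
      _ = i * ((w : G)⁻¹ * u) := by group⟩⟩
  have hf : Function.Injective f := by
    intro u u' h
    have h1 : φ u = φ u' := congrArg Prod.fst h
    have h3 : ((rep (φ u) : U a) : G)⁻¹ * u = ((rep (φ u') : U a) : G)⁻¹ * u' :=
      congrArg (fun p : axis U a × cls U a b => (p.2 : G)) h
    rw [h1] at h3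
    exact Subtype.ext (mul_left_cancel h3)
  have hcls : Nat.card (cls U a b) ≤ Nat.card (axis U a) * Nat.card (line U a b) := by
    rw [← Nat.card_prod]
    refine Nat.card_le_card_of_surjective
      (fun p : axis U a × line U a b =>
        (⟨(p.1 : G) * p.2, ⟨p.1, p.1.2, p.2, p.2.2, rfl⟩⟩ : cls U a b)) ?_
    rintro ⟨_, z, hz, s, hs, rfl⟩
    exact ⟨⟨⟨z, hz⟩, ⟨s, hs⟩⟩, rfl⟩
  have hle := Nat.card_le_card_of_injective f hf
  rw [Nat.card_prod, hU] at hle
  have hpos : 0 < Nat.card (line U a b) := Nat.card_pos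
  have hle' := hle.trans (Nat.mul_le_mul_left (Nat.card (axis U a)) hcls)
  have hlt : Nat.card (axis U a) * (Nat.card (axis U a) * Nat.card (line U a b)) <
      Nat.card (axis U a) ^ 3 * Nat.card (line U a b) := by
    rw [← mul_assoc, pow_succ, sq]
    exact Nat.mul_lt_mul_of_pos_right (by nlinarith) hpos
  omega

theorem line_sq {a b : Ω} (hb : b ≠ a) {s : G} (hs : s ∈ line U a b) : s * s = 1 := by
  by_contra hss
  have hne : line U a b ≠ ⊥ := fun h => hss (by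
    rw [h, Subgroup.mem_bot] at hs; rw [hs, one_mul])
  obtain ⟨x, hx, hxA⟩ := S.exists_second h2 hb hne
  obtain ⟨n, hn1, hn2⟩ := exists_invol_pow (h2 a) (mul_mem hs.1 hs.1) hss
  have h1 := hx.2 s hs.1
  have hc2 : Commute x (s * s) := by
    have e : x * (s * s) * x⁻¹ * (s * s)⁻¹ = 1 := by
      calc x * (s * s) * x⁻¹ * (s * s)⁻¹
          = (x * s * x⁻¹ * s⁻¹) * (s * (x * s * x⁻¹ * s⁻¹) * s⁻¹) := by group
        _ = 1 := by rw [← h1.2.2 s hs.1, mul_inv_cancel_right, h1.2.1]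
    have e' := mul_inv_eq_one.1 e
    exact mul_inv_eq_iff_eq_mul.1 e'
  have hc := S.mem_cls_of_comm h2 (pow_mem (mul_mem hs hs) n) hn2 hn1 hb hx.1
    (hc2.pow_right n).eq
  obtain ⟨z, hz, t, ht, rfl⟩ := mem_cls.1 hc
  refine hxA ?_
  have htS : t ∈ second U a := by
    have hzS : z ∈ second U a :=
      ⟨hz.1, fun u hu => by rw [hz.2.2 u hu, mul_inv_cancel_right, mul_inv_cancel]; exact one_mem _⟩
    simpa using mul_mem (inv_mem hzS) hx
  rw [S.second_inter_line h2 hb htS ht, mul_one]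
  exact hz

theorem cls_sq {a b : Ω} (hb : b ≠ a) {x : G} (hx : x ∈ cls U a b) : x * x = 1 := by
  obtain ⟨z, hz, s, hs, rfl⟩ := mem_cls.1 hx
  rw [show z * s * (z * s) = z * (s * z) * s by group, ← hz.2.2 s hs.1,
    show z * (z * s) * s = (z * z) * (s * s) by group, hz.2.1, S.line_sq h2 hb hs, one_mul]

theorem cls_comm {a b : Ω} (hb : b ≠ a) {x y : G} (hx : x ∈ cls U a b) (hy : y ∈ cls U a b) :
    x * y = y * x := by
  have h := S.cls_sq h2 hb (mul_mem hx hy)
  calc x * y = x * (x * y * (x * y)) * y := by rw [h, mul_one]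
    _ = (x * x) * (y * x) * (y * y) := by group
    _ = y * x := by rw [S.cls_sq h2 hb hx, S.cls_sq h2 hb hy, one_mul, mul_one]

theorem cls_eq_of_mem {a c c' : Ω} (hc : c ≠ a) (hc' : c' ≠ a) {t : G} (ht : t ∈ cls U a c)
    (ht' : t ∈ cls U a c') (htA : t ∉ axis U a) : cls U a c = cls U a c' := by
  have key : ∀ {d d' : Ω}, d ≠ a → d' ≠ a → t ∈ cls U a d → t ∈ cls U a d' →
      ∀ u ∈ cls U a d, u ∈ cls U a d' := by
    intro d d' hd hd' htd htd' u hu
    obtain ⟨z, hz, s, hs, rfl⟩ := mem_cls.1 htd'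
    have hs1 : s ≠ 1 := fun h => htA (by rw [h, mul_one]; exact hz)
    refine S.mem_cls_of_comm h2 hs (S.line_sq h2 hd' hs) hs1 hd' (cls_le hu) ?_
    have h := S.cls_comm h2 hd hu htd
    rw [← mul_assoc, ← hz.2.2 u (cls_le hu), mul_assoc, mul_assoc] at h
    exact mul_left_cancel h
  ext u
  exact ⟨key hc hc' ht ht' u, key hc' hc ht' ht u⟩

/-- A class contains `q²` points. -/
theorem card_class {a b : Ω} (hb : b ≠ a) (hne : line U a b ≠ ⊥) {c : Ω} (hc : c ≠ a) :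
    Nat.card {e : Ω // e ≠ a ∧ cls U a e = cls U a c} = Nat.card (axis U a) ^ 2 := by
  haveI := S.finiteOmega
  obtain ⟨r, hr, hr2, hr1⟩ := S.exists_line_invol_of h2 hb hne hc
  have hT := S.twoFix_of_line hr hc hr2 hr1
  have hfa : r • a = a := S.fix hr.1
  have hrA : r ∉ axis U a := fun h => S.axis_ne_twoFix h hT
  have hmem : ∀ (z : axis U a) (e : Ω), e ≠ a → (r * (z : G)) • e = e →
      cls U a e = cls U a c := by
    intro z e he hfix
    refine S.cls_eq_of_mem h2 he hc (t := r * z) ?_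
      (mul_mem (line_le_cls hr) (axis_le_cls z.2)) (fun h => hrA ?_)
    · exact line_le_cls (Subgroup.mem_inf.2 ⟨mul_mem (Subgroup.mem_inf.1 hr).1 z.2.1, hfix⟩)
    · simpa using mul_mem h (inv_mem z.2)
  let fib : axis U a → Type v := fun z => (fixSet Ω (r * (z : G)) \ {a} : Set Ω)
  let f : (Σ z, fib z) → {e : Ω // e ≠ a ∧ cls U a e = cls U a c} :=
    fun x => ⟨(x.2 : Ω), x.2.2.2, hmem x.1 _ x.2.2.2 x.2.2.1⟩
  have hbij : Function.Bijective f := by
    constructor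
    · rintro ⟨z, e, he, hea⟩ ⟨z', e', he', hea'⟩ h
      obtain rfl : e = e' := congrArg Subtype.val h
      have he₀ : (r * (z : G)) • e = e := he
      have he₀' : (r * (z' : G)) • e = e := he'
      obtain rfl : z = z' := by
        rw [mul_smul, ← eq_inv_smul_iff] at he₀ he₀'
        by_contra hne'
        exact hea (S.axis_free (mul_mem (inv_mem z'.2) z.2)
          (fun h1 => hne' (Subtype.ext (inv_mul_eq_one.1 h1).symm))
          (by rw [mul_smul, he₀, ← he₀', inv_smul_smul]))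
      rfl
    · rintro ⟨e, hea, hecls⟩
      have h : r ∈ cls U a e := by rw [hecls]; exact line_le_cls hr
      obtain ⟨z, hz, s, hs, hrs⟩ := mem_cls.1 h
      refine ⟨⟨⟨z, hz⟩, e, ?_, hea⟩, rfl⟩
      change (r * z) • e = e
      rw [hrs, mul_assoc, ← hz.2.2 s hs.1, ← mul_assoc, hz.2.1, one_mul]
      exact hs.2
  have hfib : ∀ z, Nat.card (fib z) = Nat.card (axis U a) := by
    intro z
    have hm : a ∈ fixSet Ω (r * (z : G)) := by
      change (r * (z : G)) • a = a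
      rw [mul_smul, S.axis_fix z.2, hfa]
    change Nat.card ((fixSet Ω (r * (z : G)) \ {a} : Set Ω)) = _
    rw [Nat.card_coe_set_eq, Set.ncard_sdiff_singleton_of_mem hm,
      ncard_fixSet_of_isConj (S.isConj_mul_axis h2 hT hfa z.2), (S.card_fix h2 hT hfa).1,
      Nat.add_sub_cancel]
  classical
  haveI : Fintype (axis U a) := Fintype.ofFinite _
  rw [← Nat.card_eq_of_bijective f hbij, Nat.card_sigma,
    Finset.sum_eq_card_nsmul (fun z _ => hfib z), smul_eq_mul, Finset.card_univ,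
    ← Nat.card_eq_fintype_card, sq]

/-- There are `q` classes. -/
theorem card_classes {a b : Ω} (hb : b ≠ a) (hne : line U a b ≠ ⊥) :
    ((fun c => cls U a c) '' {c : Ω | c ≠ a}).ncard = Nat.card (axis U a) := by
  haveI := S.finiteOmega
  classical
  haveI : Fintype Ω := Fintype.ofFinite Ω
  set q := Nat.card (axis U a) with hq
  have hq3 := S.three_le_card_axis a
  let s : Finset Ω := Finset.univ.filter (· ≠ a)
  have hs : s.card = q ^ 3 := by
    have := (S.card_axis_lt h2 hb hne).1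
    rw [show s = Finset.univ.erase a by ext; simp [s],
      Finset.card_erase_of_mem (Finset.mem_univ a), Finset.card_univ,
      ← Nat.card_eq_fintype_card, this, Nat.add_sub_cancel]
  have hsum := Finset.card_eq_sum_card_image (fun c => cls U a c) s
  have hfib : ∀ E ∈ s.image (fun c => cls U a c),
      (s.filter (fun x => cls U a x = E)).card = q ^ 2 := by
    intro E hE
    obtain ⟨c, hc, rfl⟩ := Finset.mem_image.1 hE
    rw [← S.card_class h2 hb hne (Finset.mem_filter.1 hc).2, Nat.card_eq_fintype_card,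
      Fintype.card_subtype]
    congr 1
    ext x
    simp [s]
  rw [Finset.sum_congr rfl hfib, Finset.sum_const, smul_eq_mul, hs] at hsum
  have hset : (fun c => cls U a c) '' {c : Ω | c ≠ a} =
      ((s.image fun c => cls U a c : Finset (Subgroup G)) : Set (Subgroup G)) := by
    ext E; simp [s]
  rw [hset, Set.ncard_coe_finset]
  have hpos : 0 < q ^ 2 := by positivity
  exact Nat.eq_of_mul_eq_mul_right hpos (by rw [← hsum]; ring)

end Split

end Cfsg.Agent.Lib.BenderSuzuki.Wrappers
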