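import Cfsg.Agent.Lib.BenderSuzuki.Wrappers.Fusion

/-!
# Counting the fixed points

An involution with two fixed points fixes exactly `q + 1` points and `|Ω| = q³ + 1`, `q = |axis|`.
-/

set_option autoImplicit false
set_option linter.style.haveILetI false

namespace Cfsg.Agent.Lib.BenderSuzuki.Wrappers

open MulAction

universe u v

variable {G : Type u} {Ω : Type v} [Group G] [MulAction G Ω] {U : Ω → Subgroup G}

/-- The fixed points of an element. -/
abbrev fixSet (Ω : Type v) [MulAction G Ω] (r : G) : Set Ω := {c | r • c = c}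

theorem ncard_fixSet_of_isConj {r s : G} (h : IsConj r s) :
    (fixSet Ω s).ncard = (fixSet Ω r).ncard := by
  obtain ⟨g, rfl⟩ := isConj_iff.1 h
  have e : fixSet Ω (g * r * g⁻¹) = (fun c => g • c) '' fixSet Ω r := by
    ext c
    constructor
    · intro hc
      refine ⟨g⁻¹ • c, ?_, smul_inv_smul g c⟩
      have hc' : (g * r * g⁻¹) • c = c := hc
      change r • g⁻¹ • c = g⁻¹ • c
      rw [mul_smul, mul_smul] at hc'
      exact eq_inv_smul_iff.2 hc'
    · rintro ⟨x, hx, rfl⟩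
      have hx' : r • x = x := hx
      change (g * r * g⁻¹) • g • x = g • x
      rw [mul_smul, mul_smul, inv_smul_smul, hx']
  rw [e, Set.ncard_image_of_injective _ (MulAction.injective g)]

theorem exists_two_pow_of_dvd {x T : ℕ} (h : x ∣ 2 ^ T) : ∃ y, x = 2 ^ y := by
  obtain ⟨y, -, hy⟩ := (Nat.dvd_prime_pow Nat.prime_two).1 h
  exact ⟨y, hy⟩

theorem count_arith {q F T e : ℕ} (hq : q = 2 ^ e) (hq2 : 3 ≤ q) (hF : q ≤ F)
    (h : 2 ^ T = F * (1 + (q - 1) * (F + 1))) : F = q ∧ 2 ^ T = q ^ 3 := by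
  obtain ⟨y, hy⟩ := exists_two_pow_of_dvd (h ▸ Dvd.intro _ rfl : F ∣ 2 ^ T)
  obtain ⟨g, hg⟩ := exists_two_pow_of_dvd (h ▸ Dvd.intro_left _ rfl :
    1 + (q - 1) * (F + 1) ∣ 2 ^ T)
  obtain ⟨k, rfl⟩ : ∃ k, q = k + 1 := ⟨q - 1, by omega⟩
  simp only [Nat.add_sub_cancel] at h hg
  have hey : e ≤ y := (Nat.pow_le_pow_iff_right (by norm_num)).1 (hq ▸ hy ▸ hF)
  have hk : k * F + (k + 1) = 2 ^ g := by rw [← hg]; ring
  rcases Nat.eq_or_lt_of_le hey with rfl | hlt
  · have hFq : F = k + 1 := hy.trans hq.symm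
    exact ⟨hFq, by rw [h, hFq]; ring⟩
  · exfalso
    have hsplit : 2 ^ g = (k + 1) * (k * 2 ^ (y - e) + 1) := by
      rw [← hk, hy, show 2 ^ y = 2 ^ e * 2 ^ (y - e) by rw [← pow_add]; congr 1; omega, ← hq]
      ring
    obtain ⟨w, hw⟩ := exists_two_pow_of_dvd (hsplit ▸ Dvd.intro_left _ rfl :
      k * 2 ^ (y - e) + 1 ∣ 2 ^ g)
    have hev : Even (k * 2 ^ (y - e)) :=
      ((Nat.even_pow).2 ⟨even_two, by omega⟩).mul_left k
    rcases Nat.eq_zero_or_pos w with rfl | hw0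
    · simp at hw
      omega
    · have : Even (k * 2 ^ (y - e) + 1) := hw ▸ (Nat.even_pow).2 ⟨even_two, by omega⟩
      exact Nat.not_even_iff_odd.2 hev.add_one this

namespace Split

variable (S : Split G Ω U)
include S

theorem card_axis_eq [Finite G] (a c : Ω) : Nat.card (axis U c) = Nat.card (axis U a) := by
  have := S.two
  haveI : IsPretransitive G Ω := isPretransitive_of_is_two_pretransitive
  obtain ⟨g, rfl⟩ := exists_smul_eq G a c
  let e : axis U a ≃ axis U (g • a) :=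
    { toFun := fun z => ⟨g * (z : G) * g⁻¹, S.axis_conj g z.2⟩
      invFun := fun z => ⟨g⁻¹ * (z : G) * g, by
        have := S.axis_conj g⁻¹ z.2
        rwa [inv_smul_smul, inv_inv] at this⟩
      left_inv := fun z => Subtype.ext (by simp [mul_assoc])
      right_inv := fun z => Subtype.ext (by simp [mul_assoc]) }
  exact (Nat.card_congr e).symm

theorem three_le_card_axis [Finite G] (a : Ω) : 3 ≤ Nat.card (axis U a) := by
  obtain ⟨z, hz, hz1⟩ := S.exists_axis a
  obtain ⟨z', hz', hz1', hne⟩ := S.exists_second_axis hz hz1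
  have h : ({1, z, z'} : Set G).ncard ≤ (axis U a : Set G).ncard :=
    Set.ncard_le_ncard (by
      rintro x (rfl | rfl | rfl)
      exacts [(axis U a).one_mem, hz, hz']) (Set.toFinite _)
  rw [Set.ncard_eq_three.2 ⟨1, z, z', Ne.symm hz1, Ne.symm hz1', Ne.symm hne, rfl⟩,
    ← Nat.card_coe_set_eq] at h
  exact h

theorem card_eq_two_pow [Finite G] (h2 : ∀ c, IsPGroup 2 (U c)) (a : Ω) :
    ∃ T, Nat.card Ω = 2 ^ T + 1 := by
  haveI := S.finiteOmega
  haveI : Fact (Nat.Prime 2) := ⟨Nat.prime_two⟩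
  have := S.nontrivial
  obtain ⟨b, hb⟩ := exists_ne a
  obtain ⟨T, hT⟩ := (h2 a).card_orbit b
  refine ⟨T, ?_⟩
  have e : orbit (U a) b = ({a} : Set Ω)ᶜ := by
    ext c
    constructor
    · rintro ⟨u, rfl⟩ (h : (u : G) • b = a)
      exact hb (MulAction.injective (u : G) (h.trans (S.fix u.2).symm))
    · intro hc
      obtain ⟨u, hu, hub⟩ := S.trans a b c hb hc
      exact ⟨⟨u, hu⟩, hub⟩
  rw [e, Nat.card_coe_set_eq] at hT
  have := Set.ncard_add_ncard_compl ({a} : Set Ω)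
  rw [Set.ncard_singleton, hT] at this
  omega

/-- The fixed point count. -/
theorem card_fix [Finite G] (h2 : ∀ c, IsPGroup 2 (U c)) {r : G} (hr : TwoFix Ω r) {a : Ω}
    (ha : r • a = a) : (fixSet Ω r).ncard = Nat.card (axis U a) + 1 ∧
      Nat.card Ω = Nat.card (axis U a) ^ 3 + 1 := by
  haveI := S.finiteOmega
  classical
  haveI : Fintype Ω := Fintype.ofFinite Ω
  haveI : Fintype G := Fintype.ofFinite G
  set q := Nat.card (axis U a) with hqdef
  set F := fixSet Ω r with hF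
  let I := Σ d : F, {z : axis U (d : Ω) // z ≠ 1}
  let fib : I → Type v := fun i => (fixSet Ω (r * ((i.2 : axis U (i.1 : Ω)) : G)) \ {(i.1 : Ω)} : Set Ω)
  let f : (Σ i, fib i) → (Fᶜ : Set Ω) := fun x => ⟨(x.2 : Ω), S.moved_of_partner x.1.1.2
    x.1.2.1.2 (fun h => x.1.2.2 (Subtype.ext h)) x.2.2.2 hr.1 x.2.2.1⟩
  have hbij : Function.Bijective f := by
    constructor
    · rintro ⟨⟨⟨d, hd⟩, ⟨z, hz⟩, hz1⟩, ⟨c, hc, hcd⟩⟩ ⟨⟨⟨d', hd'⟩, ⟨z', hz'⟩, hz1'⟩, ⟨c', hc', hcd'⟩⟩ e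
      obtain rfl : c = c' := congrArg Subtype.val e
      obtain ⟨rfl, rfl⟩ := S.partner_unique hr.1 hd hd' hz (fun h => hz1 (Subtype.ext h)) hz'
        (fun h => hz1' (Subtype.ext h)) hc hc' hcd (h2 c)
      rfl
    · rintro ⟨c, hc⟩
      have hc' : r • c ≠ c := hc
      obtain ⟨w, hw, hw1⟩ := S.exists_axis c
      obtain ⟨d, z, hd, hz, hz1, hcz, -⟩ := S.exists_partner hr hc' hw hw1
      exact ⟨⟨⟨⟨d, hd⟩, ⟨z, hz⟩, fun h => hz1 (congrArg Subtype.val h)⟩,
        ⟨c, hcz, fun h => hc' (by rw [Set.mem_singleton_iff] at h; rw [h]; exact hd)⟩⟩, rfl⟩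
  have hfib : ∀ i, Nat.card (fib i) = F.ncard - 1 := by
    rintro ⟨⟨d, hd⟩, ⟨z, hz⟩, hz1⟩
    change Nat.card ((fixSet Ω (r * z) \ {d} : Set Ω)) = _
    have hmem : d ∈ fixSet Ω (r * z) := by
      change (r * z) • d = d
      rw [mul_smul, S.axis_fix hz]; exact hd
    rw [Nat.card_coe_set_eq, Set.ncard_sdiff_singleton_of_mem hmem,
      ncard_fixSet_of_isConj (S.isConj_mul_axis h2 hr hd hz)]
  have hI : Nat.card I = F.ncard * (q - 1) := by
    rw [Nat.card_sigma, Finset.sum_eq_card_nsmul (fun d _ => (?_ : _ = q - 1)), smul_eq_mul,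
      Finset.card_univ, ← Nat.card_eq_fintype_card, Nat.card_coe_set_eq]
    rw [hqdef, ← S.card_axis_eq a (d : Ω), Nat.card_eq_fintype_card, Nat.card_eq_fintype_card,
      Fintype.card_subtype_compl, Fintype.card_subtype_eq]
  have hcard := Nat.card_eq_of_bijective f hbij
  haveI : Fintype I := Fintype.ofFinite I
  rw [Nat.card_sigma, Finset.sum_congr rfl fun i _ => hfib i, Finset.sum_const, smul_eq_mul,
    Finset.card_univ, ← Nat.card_eq_fintype_card, hI, Nat.card_coe_set_eq] at hcard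
  obtain ⟨T, hT⟩ := S.card_eq_two_pow h2 a
  obtain ⟨e, he⟩ : ∃ e, q = 2 ^ e := by
    haveI : Fact (Nat.Prime 2) := ⟨Nat.prime_two⟩
    exact IsPGroup.iff_card.1 ((h2 a).to_le fun z (hz : z ∈ axis U a) => hz.1)
  -- the axis acts freely on the other fixed points
  obtain ⟨b, hb, hba⟩ : ∃ b, r • b = b ∧ b ≠ a := by
    obtain ⟨-, -, c, d, hcd, hc, hd⟩ := hr
    by_cases h : c = a
    · exact ⟨d, hd, fun h' => hcd (h.trans h'.symm)⟩
    · exact ⟨c, hc, h⟩
  have hle : q ≤ F.ncard - 1 := by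
    have hmem : a ∈ F := ha
    rw [← Set.ncard_sdiff_singleton_of_mem hmem, hqdef, ← Nat.card_coe_set_eq]
    refine Nat.card_le_card_of_injective
      (fun z : axis U a => (⟨(z : G) • b, ?_, ?_⟩ : (F \ {a} : Set Ω))) ?_
    · change r • ((z : G) • b) = (z : G) • b
      rw [← mul_smul, ← S.axis_comm_invol z.2 hr.1 ha, mul_smul, hb]
    · intro h
      exact hba (MulAction.injective (z : G) (h.trans (S.axis_fix z.2).symm))
    · intro z z' h
      have h' : (z : G) • b = (z' : G) • b := congrArg Subtype.val h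
      by_contra hne
      exact hba (S.axis_free ((axis U a).mul_mem ((axis U a).inv_mem z'.2) z.2)
        (fun h1 => hne (Subtype.ext (inv_mul_eq_one.1 h1).symm))
        (by rw [mul_smul, h', inv_smul_smul]))
  have hq3 := S.three_le_card_axis a
  obtain ⟨k, hk⟩ : ∃ k, F.ncard = k + 1 := ⟨F.ncard - 1, by omega⟩
  have htot := Set.ncard_add_ncard_compl F
  rw [← hcard, hT, hk, Nat.add_sub_cancel] at htot
  rw [hk, Nat.add_sub_cancel] at hle
  obtain ⟨h1, h2'⟩ := count_arith he hq3 hle (T := T) (by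
    have e1 : k * (1 + (q - 1) * (k + 1)) = k + (k + 1) * (q - 1) * k := by ring
    omega)
  exact ⟨by rw [hk, h1], by rw [hT, h2']⟩

end Split

end Cfsg.Agent.Lib.BenderSuzuki.Wrappers
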