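import Cfsg.Agent.Lib.BenderSuzuki.Wrappers.Section

/-!
# Involutions with two fixed points

If some involution `r` fixes two points, then every point outside `Fix r` is fixed by exactly one
`r * z` with `z` in the axis of a fixed point of `r`, and all these products are conjugate to `r`.
-/

set_option autoImplicit false
set_option linter.style.haveILetI false

namespace Cfsg.Agent.Lib.BenderSuzuki.Wrappers

open MulAction

universe u v

variable {G : Type u} {Ω : Type v} [Group G] [MulAction G Ω] {U : Ω → Subgroup G}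

/-- An involution with two fixed points. -/
def TwoFix (Ω : Type v) [MulAction G Ω] (r : G) : Prop :=
  r * r = 1 ∧ r ≠ 1 ∧ ∃ c d : Ω, c ≠ d ∧ r • c = c ∧ r • d = d

theorem TwoFix.conj {r : G} (h : TwoFix Ω r) (g : G) : TwoFix Ω (g * r * g⁻¹) := by
  obtain ⟨h1, h2, c, d, hcd, hc, hd⟩ := h
  refine ⟨?_, ?_, g • c, g • d, fun e => hcd (MulAction.injective g e), ?_, ?_⟩
  · rw [show g * r * g⁻¹ * (g * r * g⁻¹) = g * (r * r) * g⁻¹ by group, h1]; group
  · simpa [mul_inv_eq_one] using h2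
  · rw [mul_smul, mul_smul, inv_smul_smul, hc]
  · rw [mul_smul, mul_smul, inv_smul_smul, hd]

theorem TwoFix.of_isConj {r s : G} (h : TwoFix Ω r) (hc : IsConj r s) : TwoFix Ω s := by
  obtain ⟨g, rfl⟩ := isConj_iff.1 hc
  exact h.conj g

namespace Split

variable (S : Split G Ω U)
include S

/-- The midpoint of two axis elements. -/
theorem exists_mid [Finite G] {a c : Ω} {z z' : G} (hac : a ≠ c) (hz : z ∈ axis U a) (hz1 : z ≠ 1)
    (hz' : z' ∈ axis U c) (hz1' : z' ≠ 1) :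
    ∃ i d, i ∈ axis U d ∧ i ≠ 1 ∧ i * z * i = z' ∧ i • a = c ∧
      i ∈ Subgroup.closure ({z, z'} : Set G) := by
  obtain ⟨j, hj⟩ := S.odd_orderOf_mul_axis hac hz hz1 hz' hz1'
  set v := z * z' with hv
  obtain ⟨m, hm⟩ : ∃ m, 4 * ((j + 1) ^ 2 * (2 * j)) + 1 = (2 * j + 1) * m :=
    ⟨4 * j ^ 2 + 6 * j + 1, by ring⟩
  set s := (j + 1) ^ 2 * (2 * j)
  have hpow : v ^ (4 * s + 1) = 1 := by rw [hm, ← hj, pow_mul, pow_orderOf_eq_one, one_pow]
  have hvinv : v⁻¹ = z' * z := by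
    rw [hv, mul_inv_rev, inv_eq_of_mul_eq_one_right hz.2.1, inv_eq_of_mul_eq_one_right hz'.2.1]
  have hzv : z * v = v⁻¹ * z := by
    rw [hvinv, hv, ← mul_assoc, hz.2.1, one_mul, mul_assoc, hz.2.1, mul_one]
  set h := v ^ s with hh
  have hsc : z * h = h⁻¹ * z := by
    rw [hh, ← inv_pow]
    exact (show SemiconjBy z v v⁻¹ from hzv).pow_right s
  have hsc' : z * h⁻¹ = h * z := by
    calc z * h⁻¹ = h * (h⁻¹ * z) * h⁻¹ := by group
      _ = h * z := by rw [← hsc]; group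
  have e : (h * z * h⁻¹) * z * (h * z * h⁻¹) = z' := by
    have e : h * z * h⁻¹ = h * h * z := by rw [mul_assoc, hsc', ← mul_assoc]
    rw [e, mul_assoc (h * h) z z, hz.2.1, mul_one]
    have h4 : h * h * (h * h) * v = 1 := by
      rw [hh, ← pow_add, ← pow_add, ← pow_succ, show s + s + (s + s) + 1 = 4 * s + 1 by ring, hpow]
    calc h * h * (h * h * z) = h * h * (h * h) * z := by group
      _ = v⁻¹ * z := by rw [eq_inv_of_mul_eq_one_left h4]
      _ = z' := by rw [hvinv, mul_assoc, hz.2.1, mul_one]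
  refine ⟨h * z * h⁻¹, h • a, S.axis_conj h hz, by simpa [mul_inv_eq_one] using hz1, e, ?_, ?_⟩
  · -- the fixed point of `i * z * i` is `c`
    refine S.axis_free hz' hz1' ?_
    have hi := (S.axis_conj h hz).2.1
    rw [← e, mul_smul, mul_smul, ← mul_smul (h * z * h⁻¹) (h * z * h⁻¹), hi, one_smul,
      S.axis_fix hz]
  · have hzc : z ∈ Subgroup.closure ({z, z'} : Set G) := Subgroup.subset_closure (by simp)
    have hzc' : z' ∈ Subgroup.closure ({z, z'} : Set G) := Subgroup.subset_closure (by simp)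
    have hhc : h ∈ Subgroup.closure ({z, z'} : Set G) := pow_mem (mul_mem hzc hzc') s
    exact mul_mem (mul_mem hhc hzc) (inv_mem hhc)

variable [Finite G]

theorem exists_centralizing {r : G} (hr : r * r = 1) {c d : Ω} (hc : r • c = c) (hd : r • d = d) :
    ∃ g : G, g * r = r * g ∧ g • c = d := by
  haveI := S.finiteOmega
  haveI : Fact (Nat.Prime 2) := ⟨Nat.prime_two⟩
  have hfix : ∀ e ∈ {e : Ω | r • e = e}, ∃ x ∈ Subgroup.centralizer ({r} : Set G),
      (∃ k, x ^ (2 ^ k) = 1) ∧ x • e = e ∧ ∀ f : Ω, x • f = f → f = e := by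
    intro e he
    obtain ⟨z, hz, hz1⟩ := S.exists_axis e
    exact ⟨z, Subgroup.mem_centralizer_singleton_iff.2 (S.axis_comm_invol hz hr he),
      ⟨1, by rw [pow_one, sq, hz.2.1]⟩, S.axis_fix hz, fun f hf => S.axis_free hz hz1 hf⟩
  obtain ⟨g, hg, hgc⟩ := exists_smul_eq_of_fixers (p := 2) _ _ hfix (c := c) (d := d) hc hd
  exact ⟨g, Subgroup.mem_centralizer_singleton_iff.1 hg, hgc⟩

theorem axis_ne_twoFix {c : Ω} {z : G} (hz : z ∈ axis U c) (h : TwoFix Ω z) : False := by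
  obtain ⟨-, h1, x, y, hxy, hx, hy⟩ := h
  exact hxy ((S.axis_free hz h1 hx).trans (S.axis_free hz h1 hy).symm)

/-- A point moved by `r` has a partner among the fixed points. -/
theorem exists_partner {r : G} (hr : TwoFix Ω r) {c : Ω} (hc : r • c ≠ c) {z : G}
    (hz : z ∈ axis U c) (hz1 : z ≠ 1) :
    ∃ d z', r • d = d ∧ z' ∈ axis U d ∧ z' ≠ 1 ∧ (r * z') • c = c ∧ IsConj r (z * (r * z')) := by
  obtain ⟨hr2, hr1, -⟩ := id hr
  have hz2 := S.axis_conj r hz
  rw [inv_eq_of_mul_eq_one_right hr2] at hz2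
  have hz21 : r * z * r ≠ 1 := by
    intro h
    apply hz1
    calc z = (r * r) * z * (r * r) := by rw [hr2, one_mul, mul_one]
      _ = r * (r * z * r) * r := by group
      _ = 1 := by rw [h, mul_one, hr2]
  obtain ⟨i, hi⟩ := S.odd_orderOf_mul_axis (Ne.symm hc) hz hz1 hz2 hz21
  set v := z * r with hv
  have hv2 : v ^ (2 * (2 * i + 1)) = 1 := by
    rw [pow_mul, ← hi, sq, show v * v = z * (r * z * r) by rw [hv]; group, pow_orderOf_eq_one]
  set w := v ^ (2 * i + 1) with hw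
  have hw2 : w * w = 1 := by rw [hw, ← pow_add, ← two_mul, hv2]
  have hvr : r * v = v⁻¹ * r := by
    rw [hv, mul_inv_rev, inv_eq_of_mul_eq_one_right hr2, inv_eq_of_mul_eq_one_right hz.2.1,
      mul_assoc]
  have hvz : z * v = v⁻¹ * z := by
    rw [hv, mul_inv_rev, inv_eq_of_mul_eq_one_right hr2, inv_eq_of_mul_eq_one_right hz.2.1,
      ← mul_assoc, hz.2.1, one_mul, mul_assoc, hz.2.1, mul_one]
  have hrsc : ∀ j : ℕ, r * v ^ j = (v ^ j)⁻¹ * r := fun j => by
    rw [← inv_pow]; exact (show SemiconjBy r v v⁻¹ from hvr).pow_right j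
  have hzsc : ∀ j : ℕ, z * v ^ j = (v ^ j)⁻¹ * z := fun j => by
    rw [← inv_pow]; exact (show SemiconjBy z v v⁻¹ from hvz).pow_right j
  have hzw : z * w = w * z := by rw [hw, hzsc, ← hw, inv_eq_of_mul_eq_one_right hw2]
  have hrw : r * w = w * r := by rw [hw, hrsc, ← hw, inv_eq_of_mul_eq_one_right hw2]
  -- `r * w` is conjugate to `z`, `z * w` to `r`
  have h2i : ∀ j : ℕ, v ^ (2 * j) = v ^ j * v ^ j := fun j => by rw [two_mul, pow_add]
  have erw : r * w = (v ^ (i + 1))⁻¹ * z * ((v ^ (i + 1))⁻¹)⁻¹ := by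
    have hv' : v * (r * z) = 1 := by
      rw [hv, show z * r * (r * z) = z * (r * r) * z by group, hr2, mul_one, hz.2.1]
    have ew : v ^ (2 * (i + 1)) * (r * z) = w := by
      rw [show 2 * (i + 1) = 2 * i + 1 + 1 by ring, pow_succ, mul_assoc, hv', mul_one]
    have : r * w = (v ^ (2 * (i + 1)))⁻¹ * z := by
      rw [← ew, ← mul_assoc, hrsc, mul_assoc, ← mul_assoc r r z, hr2, one_mul]
    rw [this, h2i, inv_inv, mul_assoc ((v ^ (i + 1))⁻¹) z, hzsc]
    group
  have ezw : z * w = (v ^ i)⁻¹ * r * ((v ^ i)⁻¹)⁻¹ := by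
    have : z * w = (v ^ (2 * i))⁻¹ * r := by
      rw [← hrsc (2 * i), hw, pow_succ', ← mul_assoc, hv, ← mul_assoc, hz.2.1, one_mul]
    rw [this, h2i, inv_inv, mul_assoc ((v ^ i)⁻¹) r, hrsc]
    group
  have hm := S.axis_conj ((v ^ (i + 1))⁻¹) hz
  rw [← erw] at hm
  have hm1 : r * w ≠ 1 := by
    rw [erw]; exact fun h => hz1 (conj_eq_one_iff.1 h)
  set d := (v ^ (i + 1))⁻¹ • c
  have hwc : w • c = c := S.axis_free hz hz1 (by rw [← mul_smul, hzw, mul_smul, S.axis_fix hz])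
  have hrd : r • d = d := by
    refine S.axis_free hm hm1 ?_
    rw [← mul_smul, show r * w * r = r * (r * w) by rw [mul_assoc, ← hrw], mul_smul,
      S.axis_fix hm]
  refine ⟨d, r * w, hrd, hm, hm1, ?_, ?_⟩
  · rw [← mul_assoc, hr2, one_mul, hwc]
  · rw [← mul_assoc r r w, hr2, one_mul, ezw]
    exact isConj_iff.2 ⟨_, rfl⟩

omit [Finite G] in
theorem moved_of_partner {r : G} {c d : Ω} {z : G} (hrd : r • d = d)
    (hz : z ∈ axis U d) (hz1 : z ≠ 1) (hcd : c ≠ d) (hr : r * r = 1) (hc : (r * z) • c = c) :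
    r • c ≠ c := by
  intro h
  rw [← S.axis_comm_invol hz hr hrd, mul_smul, h] at hc
  exact hcd (S.axis_free hz hz1 hc)

theorem partner_unique {r : G} (hr : r * r = 1) {c d d' : Ω} {z z' : G} (hd : r • d = d)
    (hd' : r • d' = d') (hz : z ∈ axis U d) (hz1 : z ≠ 1) (hz' : z' ∈ axis U d') (hz1' : z' ≠ 1)
    (hc : (r * z) • c = c) (hc' : (r * z') • c = c) (hcd : c ≠ d)
    (h2 : IsPGroup 2 (U c)) : d = d' ∧ z = z' := by
  have e1 : z * r = r * z := S.axis_comm_invol hz hr hd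
  have hsq : ∀ {x : G} {e : Ω}, x ∈ axis U e → r • e = e → r * x * (r * x) = 1 := by
    intro x e hx he
    have h := S.axis_comm_invol hx hr he
    rw [show r * x * (r * x) = r * (x * r) * x by group, h, ← mul_assoc, hr, one_mul, hx.2.1]
  have hp : (r * z) * (r * z') = z * z' := by
    rw [show r * z * (r * z') = r * (z * r) * z' by group, e1, ← mul_assoc r r z, hr, one_mul]
  have hmem : z * z' ∈ U c := by
    rw [← hp]
    exact (U c).mul_mem (S.invol_mem (hsq hz hd) hc) (S.invol_mem (hsq hz' hd') hc')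
  by_cases hdd : d = d'
  · subst hdd
    refine ⟨rfl, ?_⟩
    by_contra hne
    refine hcd (S.axis_free ((axis U d).mul_mem hz hz') (fun h => hne ?_) ?_)
    · exact (mul_eq_one_iff_eq_inv.1 h).trans (inv_eq_of_mul_eq_one_right hz'.2.1)
    · rw [← hp, mul_smul, hc', hc]
  · exfalso
    obtain ⟨k, hk⟩ := h2 ⟨_, hmem⟩
    have hk' : (z * z') ^ (2 ^ k) = 1 := congrArg Subtype.val hk
    have hodd := S.odd_orderOf_mul_axis hdd hz hz1 hz' hz1'
    obtain ⟨j, -, hj⟩ := (Nat.dvd_prime_pow Nat.prime_two).1 (orderOf_dvd_of_pow_eq_one hk')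
    rw [hj] at hodd
    rcases Nat.eq_zero_or_pos j with rfl | hj0
    · rw [pow_zero, orderOf_eq_one_iff] at hj
      have : z = z' := (mul_eq_one_iff_eq_inv.1 hj).trans (inv_eq_of_mul_eq_one_right hz'.2.1)
      exact hdd (S.axis_free (this ▸ hz') hz1 (S.axis_fix hz)).symm.symm
    · exact absurd (even_two.pow_of_ne_zero (by omega)) (Nat.not_even_iff_odd.2 hodd)

/-- All `r * x`, `x` in the axis of a fixed point, are conjugate to `r`. -/
theorem isConj_mul_axis (h2 : ∀ c, IsPGroup 2 (U c)) {r : G} (hr : TwoFix Ω r)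
    {d : Ω} (hd : r • d = d) {x : G} (hx : x ∈ axis U d) : IsConj r (r * x) := by
  obtain ⟨hr2, hr1, -⟩ := id hr
  -- first step: all but one
  have step : ∀ {s : G}, TwoFix Ω s → ∀ {e : Ω} {z : G}, s • e = e → z ∈ axis U e → z ≠ 1 →
      TwoFix Ω (s * z) → ∀ y ∈ axis U e, y ≠ z → IsConj s (s * y) := by
    intro s hs e z hse hz hz1 ⟨hw2, _, c₁, c₂, hc12, hc₁, hc₂⟩ y hy hyz
    obtain ⟨c, hce, hc⟩ : ∃ c, c ≠ e ∧ (s * z) • c = c := by
      by_cases h : c₁ = e
      · exact ⟨c₂, fun h' => hc12 (h.trans h'.symm), hc₂⟩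
      · exact ⟨c₁, h, hc₁⟩
    have hwe : (s * z) • e = e := by rw [mul_smul, S.axis_fix hz, hse]
    obtain ⟨g, hgw, hge⟩ := S.exists_centralizing hw2 hwe hc
    set z'' := g * (z * y) * g⁻¹ with hz''
    have hzy : z * y ≠ 1 := fun h => hyz
      ((eq_inv_of_mul_eq_one_right h).trans (inv_eq_of_mul_eq_one_right hz.2.1))
    have hm := S.axis_conj g ((axis U e).mul_mem hz hy)
    rw [hge, ← hz''] at hm
    have hm1 : z'' ≠ 1 := by rw [hz'']; exact fun h => hzy (mul_inv_eq_one.1 (by simpa using h))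
    have hsc : s • c ≠ c := S.moved_of_partner hse hz hz1 hce hs.1 hc
    obtain ⟨d', z', hd', hz', hz1', hc', hconj⟩ := S.exists_partner hs hsc hm hm1
    obtain ⟨-, rfl⟩ := S.partner_unique hs.1 hse hd' hz hz1 hz' hz1' hc hc' hce (h2 c)
    refine hconj.trans (isConj_iff.2 ⟨g⁻¹, ?_⟩)
    have hg' : g⁻¹ * (s * z) * g = s * z := by rw [mul_assoc, ← hgw]; group
    calc g⁻¹ * (z'' * (s * z)) * g⁻¹⁻¹ = (z * y) * (g⁻¹ * (s * z) * g) := by rw [hz'']; group
      _ = (z * y) * (s * z) := by rw [hg']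
      _ = s * y := by
          have hc1 : (z * y) * s = s * (z * y) :=
            S.axis_comm_invol ((axis U e).mul_mem hz hy) hs.1 hse
          rw [← mul_assoc, hc1, hy.2.2 z hz.1 |>.symm, mul_assoc, mul_assoc, hz.2.1, mul_one]
  -- existence of one
  obtain ⟨c, hc⟩ : ∃ c, r • c ≠ c := by
    by_contra h
    push Not at h
    exact hr1 (S.eq_one h)
  obtain ⟨w, hw, hw1⟩ := S.exists_axis c
  obtain ⟨d₀, z₀, hd₀, hz₀, hz₀1, hc₀, -⟩ := S.exists_partner hr hc hw hw1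
  have hz₀sq : r * z₀ * (r * z₀) = 1 := by
    rw [show r * z₀ * (r * z₀) = r * (z₀ * r) * z₀ by group, S.axis_comm_invol hz₀ hr2 hd₀,
      ← mul_assoc r r z₀, hr2, one_mul, hz₀.2.1]
  have hw₀ : TwoFix Ω (r * z₀) := by
    refine ⟨hz₀sq, fun h => ?_, c, d₀, fun h => hc (h ▸ hd₀), hc₀, ?_⟩
    · exact S.axis_ne_twoFix (show r ∈ axis U d₀ by
        rw [mul_eq_one_iff_eq_inv.1 h]; exact (axis U d₀).inv_mem hz₀) hr
    · rw [mul_smul, S.axis_fix hz₀, hd₀]
  obtain ⟨g, hgr, hg⟩ := S.exists_centralizing hr2 hd hd₀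
  suffices h : ∀ y ∈ axis U d₀, IsConj r (r * y) by
    have hm := S.axis_conj g hx
    rw [hg] at hm
    refine (h _ hm).trans (isConj_iff.2 ⟨g⁻¹, ?_⟩)
    rw [show g⁻¹ * (r * (g * x * g⁻¹)) * g⁻¹⁻¹ = g⁻¹ * (r * g) * x by group, ← hgr]
    group
  intro y hy
  by_cases hyz : y = z₀
  · subst hyz
    obtain ⟨y', hy', hy'1, hy'z⟩ := S.exists_second_axis hz₀ hz₀1
    have hback : TwoFix Ω (r * y * y) := by rwa [mul_assoc, hz₀.2.1, mul_one]
    have hw0d : (r * y) • d₀ = d₀ := by rw [mul_smul, S.axis_fix hz₀, hd₀]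
    have hyy : y * y' ≠ y := fun h => hy'1 (by simpa using h)
    have h1 := step hr hd₀ hz₀ hz₀1 hw₀ y' hy' hy'z
    have h2' := step hw₀ hw0d hz₀ hz₀1 hback (y * y') ((axis U d₀).mul_mem hz₀ hy') hyy
    rw [show r * y * (y * y') = r * (y * y) * y' by group, hz₀.2.1, mul_one] at h2'
    exact h1.trans h2'.symm
  · exact step hr hd₀ hz₀ hz₀1 hw₀ y hy hyz

end Split

end Cfsg.Agent.Lib.BenderSuzuki.Wrappers
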