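import Cfsg.Agent.Lib.BenderSuzuki.Interface
import Cfsg.Agent.S0225

/-!
# A simple group with a faithful transitive action of even order has 2-rank at least two
-/

set_option autoImplicit false

namespace Cfsg.Agent.Lib.BenderSuzuki.Wrappers

universe u

/-- A non-abelian simple group of even order contains two distinct commuting involutions. -/
theorem twoRank_of_simple {G : Type u} [Group G] [Finite G] [IsSimpleGroup G]
    (heven : Even (Nat.card G)) (hnc : ∃ x y : G, x * y ≠ y * x) : TwoRank G := by
  by_contra hT
  have hno : ∀ E : Subgroup G, ¬ IsKleinFour E := by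
    intro E hE
    apply hT
    haveI := hE
    haveI : Nontrivial E := Finite.one_lt_card_iff_nontrivial.1 (by rw [hE.card_four]; norm_num)
    obtain ⟨x, hx⟩ := exists_ne (1 : E)
    have hcard := hE.card_four
    obtain ⟨y, hy1, hyx⟩ : ∃ y : E, y ≠ 1 ∧ y ≠ x := by
      by_contra h
      push Not at h
      have : Nat.card E ≤ 2 := by
        have hsub : (Set.univ : Set E) ⊆ {1, x} := fun y _ => by
          by_cases hy : y = 1
          · exact Or.inl hy
          · exact Or.inr (h y hy)
        have h2 := Set.ncard_le_ncard hsub (Set.toFinite _)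
        rw [Set.ncard_univ] at h2
        exact h2.trans (Set.ncard_pair (Ne.symm hx)).le
      omega
    refine ⟨x, y, fun h => hx (Subtype.ext h), fun h => hy1 (Subtype.ext h),
      fun h => hyx (Subtype.ext h).symm, ?_, ?_, ?_⟩
    · exact congrArg Subtype.val (IsKleinFour.mul_self x)
    · exact congrArg Subtype.val (IsKleinFour.mul_self y)
    · have h : x * y = y * x := by
        calc x * y = (x * y)⁻¹ := eq_inv_of_mul_eq_one_left (IsKleinFour.mul_self _)
          _ = y⁻¹ * x⁻¹ := mul_inv_rev x y
          _ = y * x := by rw [inv_eq_of_mul_eq_one_right (IsKleinFour.mul_self x),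
              inv_eq_of_mul_eq_one_right (IsKleinFour.mul_self y)]
      exact congrArg Subtype.val h
  obtain ⟨z, hz, N, hN, hodd, hmem⟩ := Cfsg.Agent.S0225.result heven hno
  have hz1 : z ≠ 1 := by
    intro h
    rw [h, orderOf_one] at hz
    exact absurd hz (by norm_num)
  rcases hN.eq_bot_or_eq_top with rfl | rfl
  · have hc : z ∈ Subgroup.center G := Subgroup.mem_center_iff.2 fun g => by
      have h := hmem g
      rw [Subgroup.mem_bot, mul_inv_eq_one, mul_inv_eq_iff_eq_mul] at h
      exact h.symm
    obtain ⟨x, y, hxy⟩ := hnc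
    rcases (inferInstance : (Subgroup.center G).Normal).eq_bot_or_eq_top with h | h
    · rw [h, Subgroup.mem_bot] at hc
      exact hz1 hc
    · exact hxy (Subgroup.mem_center_iff.1 (h ▸ Subgroup.mem_top y) x)
  · rw [Subgroup.card_top] at hodd
    exact Nat.not_even_iff_odd.2 hodd heven

end Cfsg.Agent.Lib.BenderSuzuki.Wrappers
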