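import Cfsg.Agent.Lib.BenderSuzuki.Wrappers.Swap
import Cfsg.Agent.S0111

/-!
# Regularity

`U a ⊓ G_b = 1`: otherwise it has order two and Thompson's transfer lemma contradicts simplicity.
-/

set_option autoImplicit false
set_option linter.style.haveILetI false

namespace Cfsg.Agent.Lib.BenderSuzuki.Wrappers

open MulAction

universe u v

variable {G : Type u} {Ω : Type v} [Group G] [MulAction G Ω] {U : Ω → Subgroup G}

theorem commute_of_sq {x y : G} (hx : x * x = 1) (hy : y * y = 1) (h : x * y * (x * y) = 1) :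
    x * y = y * x := by
  calc x * y = x * y * (x * y) * ((x * y)⁻¹) := by group
    _ = y⁻¹ * x⁻¹ := by rw [h, one_mul, mul_inv_rev]
    _ = y * x := by rw [inv_eq_of_mul_eq_one_right hy, inv_eq_of_mul_eq_one_right hx]

namespace Split

variable (S : Split G Ω U)
include S
variable [Finite G] (h2 : ∀ e, IsPGroup 2 (U e))
include h2

/-- `TwoFix` elements of `U a` and the involutions of the `line U a e`. -/
theorem exists_line_of_twoFix {a : Ω} {s : G} (hs : s ∈ U a) (hT : TwoFix Ω s) :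
    ∃ e, e ≠ a ∧ s ∈ line U a e := by
  obtain ⟨-, -, c, d, hcd, hc, hd⟩ := hT
  by_cases h : c = a
  · exact ⟨d, fun h' => hcd (h.trans h'.symm), Subgroup.mem_inf.2 ⟨hs, hd⟩⟩
  · exact ⟨c, h, Subgroup.mem_inf.2 ⟨hs, hc⟩⟩

theorem line_not_axis {a c : Ω} (hc : c ≠ a) {s : G} (hs : s ∈ line U a c) (hs1 : s ≠ 1) :
    s ∉ axis U a := fun h => hc (S.axis_free h hs1 hs.2)

theorem cls_eq_of_comm {a c c' : Ω} (hc : c ≠ a) (hc' : c' ≠ a) {s s' : G} (hs : s ∈ line U a c)
    (hs1 : s ≠ 1) (hs' : s' ∈ line U a c') (hs'1 : s' ≠ 1) (h : s' * s = s * s') :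
    cls U a c = cls U a c' :=
  S.cls_eq_of_mem h2 hc hc' (S.mem_cls_of_comm h2 hs (S.line_sq h2 hc hs) hs1 hc hs'.1 h)
    (line_le_cls hs') (S.line_not_axis h2 hc' hs' hs'1)

theorem comm_mem_axis {a c c' : Ω} (hc : c ≠ a) (hc' : c' ≠ a) {s s' : G} (hs : s ∈ line U a c)
    (hs' : s' ∈ line U a c') : s' * s * (s' * s) ∈ axis U a := by
  by_cases hs1 : s = 1
  · rw [hs1, mul_one, S.line_sq h2 hc' hs']; exact one_mem _
  by_cases hs'1 : s' = 1
  · rw [hs'1, one_mul, S.line_sq h2 hc hs]; exact one_mem _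
  by_contra hA
  have hi : ∀ {e : Ω} {x : G}, e ≠ a → x ∈ line U a e → x⁻¹ = x := fun he hx =>
    inv_eq_of_mul_eq_one_right (S.line_sq h2 he hx)
  have hne : ∀ {e : Ω} {x : G}, x ∈ line U a e → x ≠ 1 → line U a e ≠ ⊥ := fun hx hx1 h =>
    hx1 (by rwa [h, Subgroup.mem_bot] at hx)
  have h1 : s' * s * (s' * s) ∈ cls U a c := by
    have := S.cls_conj_mem h2 hc' (hne hs' hs'1) hc (line_le_cls hs') (line_le_cls hs)
    rw [hi hc' hs'] at this
    simpa [mul_assoc] using mul_mem this (line_le_cls hs)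
  have h1' : s' * s * (s' * s) ∈ cls U a c' := by
    have := S.cls_conj_mem h2 hc (hne hs hs1) hc' (line_le_cls hs) (line_le_cls hs')
    rw [hi hc hs] at this
    simpa [mul_assoc] using mul_mem (line_le_cls hs') this
  have heq := S.cls_eq_of_mem h2 hc hc' h1 h1' hA
  have hcm := S.cls_comm h2 hc (show s' ∈ cls U a c by rw [heq]; exact line_le_cls hs')
    (line_le_cls hs)
  refine hA ?_
  rw [show s' * s * (s' * s) = s' * (s * s') * s by group, ← hcm,
    show s' * (s' * s) * s = (s' * s') * (s * s) by group, S.line_sq h2 hc' hs',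
    S.line_sq h2 hc hs, one_mul]
  exact one_mem _

theorem comm_mul {a c e e' : Ω} (hc : c ≠ a) (he : e ≠ a) (he' : e' ≠ a) {s x y : G}
    (hs : s ∈ line U a c) (hx : x ∈ line U a e) (hy : y ∈ line U a e') :
    (x * y) * s * (x * y)⁻¹ * s⁻¹ = (x * s * (x * s)) * (y * s * (y * s)) := by
  have hy2 := S.comm_mem_axis h2 hc he' hs hy
  have hx2 := S.comm_mem_axis h2 hc he hs hx
  rw [mul_inv_rev, inv_eq_of_mul_eq_one_right (S.line_sq h2 hc hs),
    inv_eq_of_mul_eq_one_right (S.line_sq h2 he hx), inv_eq_of_mul_eq_one_right (S.line_sq h2 he' hy)]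
  calc x * y * s * (y * x) * s = x * (y * s * (y * s)) * (s * x * s) := by
        rw [show x * (y * s * (y * s)) * (s * x * s) = x * y * s * y * (s * s) * x * s by group,
          S.line_sq h2 hc hs]
        group
    _ = (y * s * (y * s)) * x * (s * x * s) := by rw [hy2.2.2 x hx.1]
    _ = (y * s * (y * s)) * (x * s * (x * s)) := by group
    _ = _ := hy2.2.2 _ hx2.1

/-- `|U a ⊓ G_c| = 2` and `t ↦ (t s)²` is onto. -/
theorem line_two {a b : Ω} (hb : b ≠ a) (hne : line U a b ≠ ⊥) {c : Ω} (hc : c ≠ a) {s : G}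
    (hs : s ∈ line U a c) (hs1 : s ≠ 1) :
    (∀ x ∈ line U a c, x = 1 ∨ x = s) ∧ ∀ y ∈ axis U a, y ≠ 1 →
      ∃ e t, e ≠ a ∧ t ∈ line U a e ∧ t ≠ 1 ∧ t * s * (t * s) = y := by
  haveI := S.finiteOmega
  classical
  set R := Nat.card (line U a c) with hR
  have hcardLine : ∀ e, e ≠ a → Nat.card (line U a e) = R := by
    intro e he
    obtain ⟨u, hu, rfl⟩ := S.trans a c e hc he
    refine (Nat.card_congr
      { toFun := fun x : line U a c => (⟨u * (x : G) * u⁻¹, S.line_conj (S.fix hu) x.2⟩ :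
          line U a (u • c))
        invFun := fun x => ⟨u⁻¹ * (x : G) * u, by
          have := S.line_conj (S.fix ((U a).inv_mem hu)) x.2
          rwa [inv_smul_smul, inv_inv] at this⟩
        left_inv := fun x => Subtype.ext (by simp [mul_assoc])
        right_inv := fun x => Subtype.ext (by simp [mul_assoc]) }).symm
  let 𝒦' := {E : Subgroup G // E ∈ ((fun e => cls U a e) '' {e : Ω | e ≠ a}) \ {cls U a c}}
  have hcard : Nat.card 𝒦' = Nat.card (axis U a) - 1 := by
    rw [← S.card_classes h2 hb hne]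
    exact (Nat.card_coe_set_eq _).trans (Set.ncard_sdiff_singleton_of_mem ⟨c, hc, rfl⟩)
  choose rep hrep hrepE using fun E : 𝒦' => E.2.1
  have hrepne : ∀ E, cls U a c ≠ cls U a (rep E) := fun E h => E.2.2 (by
    rw [Set.mem_singleton_iff, ← hrepE E, h])
  let f : (Σ E : 𝒦', {t : line U a (rep E) // t ≠ 1}) → {y : axis U a // y ≠ 1} := fun x =>
    ⟨⟨(x.2.1 : G) * s * ((x.2.1 : G) * s), S.comm_mem_axis h2 hc (hrep x.1) hs x.2.1.2⟩, fun h =>
      hrepne x.1 (S.cls_eq_of_comm h2 hc (hrep x.1) hs hs1 x.2.1.2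
        (fun h' => x.2.2 (Subtype.ext h'))
        (commute_of_sq (S.line_sq h2 (hrep x.1) x.2.1.2) (S.line_sq h2 hc hs)
          (congrArg Subtype.val h)))⟩
  have hf : Function.Injective f := by
    rintro ⟨E, ⟨t, ht⟩, ht1⟩ ⟨E', ⟨t', ht'⟩, ht'1⟩ h
    have h' : t * s * (t * s) = t' * s * (t' * s) :=
      congrArg (fun z : {y : axis U a // y ≠ 1} => ((z : axis U a) : G)) h
    have ht0 : t ≠ 1 := fun e => ht1 (Subtype.ext e)
    have ht0' : t' ≠ 1 := fun e => ht'1 (Subtype.ext e)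
    have hcm : Commute (t * t') s := by
      have h3 := S.comm_mul h2 hc (hrep E) (hrep E') hs ht ht'
      rw [h', (S.comm_mem_axis h2 hc (hrep E') hs ht').2.1] at h3
      exact mul_inv_eq_iff_eq_mul.1 (mul_inv_eq_one.1 h3)
    have hmem := S.mem_cls_of_comm h2 hs (S.line_sq h2 hc hs) hs1 hc (mul_mem ht.1 ht'.1) hcm.eq
    -- `e = t * t'` commutes with `t`
    have he2 := S.cls_sq h2 hc hmem
    have het : (t * t') * t = t * (t * t') := by
      rw [mul_assoc, ← commute_of_sq (S.line_sq h2 (hrep E) ht) (S.line_sq h2 (hrep E') ht') he2]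
    have hmemE := S.mem_cls_of_comm h2 ht (S.line_sq h2 (hrep E) ht) ht0 (hrep E)
      (mul_mem ht.1 ht'.1) het
    have hA : t * t' ∈ axis U a := by
      by_contra hA
      exact hrepne E (S.cls_eq_of_mem h2 hc (hrep E) hmem hmemE hA)
    have htE : t' ∈ cls U a (rep E) := by
      have := mul_mem (line_le_cls ht) (axis_le_cls (c := rep E) hA)
      rwa [← mul_assoc, S.line_sq h2 (hrep E) ht, one_mul] at this
    obtain rfl : E = E' := by
      refine Subtype.ext ?_
      rw [← hrepE E, ← hrepE E']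
      exact S.cls_eq_of_mem h2 (hrep E) (hrep E') htE (line_le_cls ht')
        (S.line_not_axis h2 (hrep E') ht' ht0')
    have htt : t = t' := by
      by_contra htne
      exact S.line_not_axis h2 (hrep E) (mul_mem ht ht') (fun h1 => htne
        ((mul_eq_one_iff_eq_inv.1 h1).trans
          (inv_eq_of_mul_eq_one_right (S.line_sq h2 (hrep E) ht')))) hA
    subst htt
    rfl
  haveI : Fintype 𝒦' := Fintype.ofFinite _
  haveI : Fintype G := Fintype.ofFinite G
  have hdom : Nat.card (Σ E : 𝒦', {t : line U a (rep E) // t ≠ 1}) =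
      (Nat.card (axis U a) - 1) * (R - 1) := by
    rw [Nat.card_sigma, Finset.sum_eq_card_nsmul (fun E _ => (?_ : _ = R - 1)), smul_eq_mul,
      Finset.card_univ, ← Nat.card_eq_fintype_card, hcard]
    rw [← hcardLine _ (hrep E), Nat.card_eq_fintype_card, Nat.card_eq_fintype_card,
      Fintype.card_subtype_compl, Fintype.card_subtype_eq]
  have hcod : Nat.card {y : axis U a // y ≠ 1} = Nat.card (axis U a) - 1 := by
    rw [Nat.card_eq_fintype_card, Nat.card_eq_fintype_card,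
      Fintype.card_subtype_compl, Fintype.card_subtype_eq]
  have hle := Nat.card_le_card_of_injective f hf
  rw [hdom, hcod] at hle
  have hq := S.three_le_card_axis a
  have hR2 : R ≤ 2 := by
    by_contra hR2
    have h3 := Nat.mul_le_mul_left (Nat.card (axis U a) - 1) (show 2 ≤ R - 1 by omega)
    omega
  have hset : ({1, s} : Set G) = (line U a c : Set G) := by
    refine Set.eq_of_subset_of_ncard_le ?_ ?_ (Set.toFinite _)
    · rintro x (rfl | rfl)
      exacts [one_mem _, hs]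
    · rw [Set.ncard_pair (Ne.symm hs1), ← Nat.card_coe_set_eq]
      exact hR2
  have hRge : 2 ≤ R := by
    have := congrArg Set.ncard hset
    rw [Set.ncard_pair (Ne.symm hs1), ← Nat.card_coe_set_eq] at this
    exact this.le
  refine ⟨fun x hx => ?_, fun y hy hy1 => ?_⟩
  · have : x ∈ ({1, s} : Set G) := by rw [hset]; exact hx
    simpa using this
  · obtain ⟨⟨E, ⟨t, ht⟩, ht1⟩, h⟩ := (Function.Injective.bijective_of_nat_card_le hf
      (by rw [hdom, hcod]; exact Nat.le_mul_of_pos_right _ (by omega))).2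
      ⟨⟨y, hy⟩, fun e => hy1 (congrArg Subtype.val e)⟩
    exact ⟨rep E, t, hrep E, ht, fun e => ht1 (Subtype.ext e),
      congrArg (fun z : {y : axis U a // y ≠ 1} => ((z : axis U a) : G)) h⟩

theorem twoFix_axis_mul {a : Ω} {z s : G} (hz : z ∈ axis U a) (hs : s ∈ U a) (hT : TwoFix Ω s) :
    z * s ∈ U a ∧ TwoFix Ω (z * s) :=
  ⟨mul_mem hz.1 hs, by rw [hz.2.2 s hs]; exact hT.of_isConj (S.isConj_mul_axis h2 hT (S.fix hs) hz)⟩

/-- The product of three involutions with two fixed points is again one. -/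
theorem twoFix_triple {a b : Ω} (hb : b ≠ a) (hne : line U a b ≠ ⊥) {s s' s'' : G}
    (hs : s ∈ U a) (hT : TwoFix Ω s) (hs' : s' ∈ U a) (hT' : TwoFix Ω s') (hs'' : s'' ∈ U a)
    (hT'' : TwoFix Ω s'') : s * s' * s'' ∈ U a ∧ TwoFix Ω (s * s' * s'') := by
  obtain ⟨c, hc, hsc⟩ := S.exists_line_of_twoFix h2 hs hT
  obtain ⟨c', hc', hsc'⟩ := S.exists_line_of_twoFix h2 hs' hT'
  obtain ⟨c'', hc'', hsc''⟩ := S.exists_line_of_twoFix h2 hs'' hT''
  have same : ∀ {e e' : Ω} {x x' : G}, e ≠ a → e' ≠ a → x ∈ line U a e → x ≠ 1 →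
      x' ∈ line U a e' → x' ≠ 1 → cls U a e = cls U a e' → ∃ z ∈ axis U a, x' = z * x := by
    intro e e' x x' he he' hx hx1 hx' hx'1 h
    obtain ⟨z, hz, w, hw, rfl⟩ := mem_cls.1 (show x' ∈ cls U a e by rw [h]; exact line_le_cls hx')
    rcases (S.line_two h2 hb hne he hx hx1).1 w hw with rfl | rfl
    · rw [mul_one] at hx' hx'1
      exact absurd hz (S.line_not_axis h2 he' hx' hx'1)
    · exact ⟨z, hz, rfl⟩
  have e2 : s * s = 1 := hT.1
  by_cases h12 : cls U a c = cls U a c'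
  · obtain ⟨z, hz, rfl⟩ := same hc hc' hsc hT.2.1 hsc' hT'.2.1 h12
    rw [← mul_assoc, ← hz.2.2 s hs, mul_assoc z s s, e2, mul_one]
    exact S.twoFix_axis_mul h2 hz hs'' hT''
  by_cases h23 : cls U a c' = cls U a c''
  · obtain ⟨z, hz, rfl⟩ := same hc' hc'' hsc' hT'.2.1 hsc'' hT''.2.1 h23
    rw [mul_assoc, hz.2.2 s' hs', ← mul_assoc s' s' z, hT'.1, one_mul, ← hz.2.2 s hs]
    exact S.twoFix_axis_mul h2 hz hs hT
  by_cases h13 : cls U a c = cls U a c''
  · obtain ⟨z, hz, rfl⟩ := same hc hc'' hsc hT.2.1 hsc'' hT''.2.1 h13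
    have hconj : s * s' * s ∈ U a ∧ TwoFix Ω (s * s' * s) := by
      refine ⟨mul_mem (mul_mem hs hs') hs, ?_⟩
      have := hT'.conj s
      rwa [inv_eq_of_mul_eq_one_right e2] at this
    rw [show s * s' * (z * s) = (s * s') * z * s by group, ← hz.2.2 (s * s') (mul_mem hs hs'),
      mul_assoc]
    exact S.twoFix_axis_mul h2 hz hconj.1 hconj.2
  have hnc : ∀ {e e' : Ω} {x x' : G}, e ≠ a → e' ≠ a → x ∈ line U a e → x ≠ 1 →
      x' ∈ line U a e' → x' ≠ 1 → cls U a e ≠ cls U a e' → x' * x * (x' * x) ≠ 1 :=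
    fun he he' hx hx1 hx' hx'1 hne' h => hne' (S.cls_eq_of_comm h2 he he' hx hx1 hx' hx'1
      (commute_of_sq (S.line_sq h2 he' hx') (S.line_sq h2 he hx) h))
  have hA1 := S.comm_mem_axis h2 hc hc' hsc hsc'
  have hA2 := S.comm_mem_axis h2 hc hc'' hsc hsc''
  have hne12 : s' * s * (s' * s) * (s'' * s * (s'' * s)) ≠ 1 := by
    intro h
    have h3 := S.comm_mul h2 hc hc' hc'' hsc hsc' hsc''
    rw [h] at h3
    have hmem := S.mem_cls_of_comm h2 hsc e2 hT.2.1 hc (mul_mem hs' hs'')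
      (mul_inv_eq_iff_eq_mul.1 (mul_inv_eq_one.1 h3))
    have hcm := commute_of_sq hT'.1 hT''.1 (S.cls_sq h2 hc hmem)
    exact h23 (S.cls_eq_of_comm h2 hc' hc'' hsc' hT'.2.1 hsc'' hT''.2.1 hcm.symm)
  obtain ⟨e, t, he, ht, ht1, hty⟩ := (S.line_two h2 hb hne hc hsc hT.2.1).2 _ (mul_mem hA1 hA2) hne12
  -- `s' * s'' * t` commutes with `s`
  have hp : (s' * s'' * t) * s = s * (s' * s'' * t) := by
    have h3 := S.comm_mul h2 hc hc' hc'' hsc hsc' hsc''
    have hsi : s⁻¹ = s := inv_eq_of_mul_eq_one_right e2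
    have hti : t⁻¹ = t := inv_eq_of_mul_eq_one_right (S.line_sq h2 he ht)
    have htA := S.comm_mem_axis h2 hc he hsc ht
    refine mul_inv_eq_iff_eq_mul.1 (mul_inv_eq_one.1 ?_)
    calc s' * s'' * t * s * (s' * s'' * t)⁻¹ * s⁻¹
        = (s' * s'') * (t * s * t⁻¹ * s⁻¹) * (s' * s'')⁻¹ * ((s' * s'') * s * (s' * s'')⁻¹ * s⁻¹) := by
          group
      _ = (t * s * (t * s)) * ((s' * s'') * s * (s' * s'')⁻¹ * s⁻¹) := by
          rw [show t * s * t⁻¹ * s⁻¹ = t * s * (t * s) by rw [hti, hsi]; group,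
            ← htA.2.2 _ (mul_mem hs' hs''), mul_inv_cancel_right]
      _ = 1 := by rw [h3, hty]; exact (mul_mem hA1 hA2).2.1
  obtain ⟨z, hz, w, hw, hzw⟩ := mem_cls.1 (S.mem_cls_of_comm h2 hsc e2 hT.2.1 hc
    (mul_mem (mul_mem hs' hs'') ht.1) hp)
  rcases (S.line_two h2 hb hne hc hsc hT.2.1).1 w hw with rfl | rfl
  · exfalso
    rw [mul_one] at hzw
    have ht' : t = s'' * s' * z := by
      rw [← hzw, show s'' * s' * (s' * s'' * t) = s'' * (s' * s') * s'' * t by group, hT'.1,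
        mul_one, hT''.1, one_mul]
    refine hnc hc' hc'' hsc' hT'.2.1 hsc'' hT''.2.1 h23 ?_
    have h5 := S.line_sq h2 he ht
    rw [ht', show s'' * s' * z * (s'' * s' * z) = s'' * s' * (z * (s'' * s')) * z by group,
      hz.2.2 _ (mul_mem hs'' hs'), show s'' * s' * (s'' * s' * z) * z =
        s'' * s' * (s'' * s') * (z * z) by group, hz.2.1, mul_one] at h5
    exact h5
  · have ht' : t = s'' * s' * (z * w) := by
      rw [← hzw, show s'' * s' * (s' * s'' * t) = s'' * (s' * s') * s'' * t by group, hT'.1,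
        mul_one, hT''.1, one_mul]
    have key : w * s' * s'' = z * t := by
      have h5 : t = z * (w * s' * s'') := by
        calc t = t⁻¹ := (inv_eq_of_mul_eq_one_right (S.line_sq h2 he ht)).symm
          _ = (z * w)⁻¹ * (s'⁻¹ * s''⁻¹) := by rw [ht']; group
          _ = z * w * (s' * s'') := by
              rw [mul_inv_rev, inv_eq_of_mul_eq_one_right hz.2.1, inv_eq_of_mul_eq_one_right e2,
                inv_eq_of_mul_eq_one_right hT'.1, inv_eq_of_mul_eq_one_right hT''.1, hz.2.2 w hs]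
          _ = _ := by group
      rw [h5, ← mul_assoc z z, hz.2.1, one_mul]
    rw [key]
    exact S.twoFix_axis_mul h2 hz ht.1 (S.twoFix_of_line ht he (S.line_sq h2 he ht) ht1)

/-- `U a` acts freely away from `a`. -/
theorem line_eq_bot {a b : Ω} (hb : b ≠ a) : line U a b = ⊥ := by
  by_contra hne
  haveI := S.finiteOmega
  haveI : Fact (Nat.Prime 2) := ⟨Nat.prime_two⟩
  obtain ⟨r, hr, hr2, hr1⟩ := S.exists_line_invol_of h2 hb hne hb
  have hrU : r ∈ U a := hr.1
  have hTr := S.twoFix_of_line hr hb hr2 hr1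
  let M : Subgroup G :=
    { carrier := {m | r * m ∈ U a ∧ TwoFix Ω (r * m)}
      one_mem' := ⟨by rw [mul_one]; exact hrU, by rw [mul_one]; exact hTr⟩
      mul_mem' := fun {m m'} hm hm' => by
        have := S.twoFix_triple h2 hb hne hm.1 hm.2 hrU hTr hm'.1 hm'.2
        rwa [show r * m * r * (r * m') = r * m * (r * r) * m' by group, hr2, mul_one,
          mul_assoc r m m'] at this
      inv_mem' := fun {m} hm => by
        have e : r * m⁻¹ = r * (r * m) * r⁻¹ := by
          calc r * m⁻¹ = r * ((r * m)⁻¹ * r) := by rw [mul_inv_rev, inv_mul_cancel_right]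
            _ = r * (r * m) * r⁻¹ := by
              rw [inv_eq_of_mul_eq_one_right hm.2.1, inv_eq_of_mul_eq_one_right hr2]; group
        show r * m⁻¹ ∈ U a ∧ TwoFix Ω (r * m⁻¹)
        rw [e]
        exact ⟨mul_mem (mul_mem hrU hm.1) (inv_mem hrU), hm.2.conj r⟩ }
  have hMU : ∀ m ∈ M, m ∈ U a := fun m hm => by
    simpa using mul_mem (inv_mem hrU) hm.1
  have hinv : ∀ m ∈ M, r * m * r = m⁻¹ := fun m hm =>
    eq_inv_of_mul_eq_one_left (by have := hm.2.1; rwa [← mul_assoc] at this)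
  have hMc : ∀ m ∈ M, ∀ m' ∈ M, m * m' = m' * m := by
    intro m hm m' hm'
    have h := hinv (m * m') (mul_mem hm hm')
    have h1 : r * (m * m') * r = m⁻¹ * m'⁻¹ := by
      rw [← hinv m hm, ← hinv m' hm', show r * m * r * (r * m' * r) = r * m * (r * r) * m' * r by
        group, hr2, mul_one, mul_assoc r m m']
    rw [h, mul_inv_rev] at h1
    have := congrArg (·⁻¹) h1
    simpa using this
  have hMsq : ∀ m ∈ M, m * m ∈ axis U a := by
    intro m hm
    obtain ⟨e, he, hse⟩ := S.exists_line_of_twoFix h2 hm.1 hm.2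
    have := S.comm_mem_axis h2 he hb hse hr
    rwa [← mul_assoc r r m, hr2, one_mul] at this
  have hMA : ∀ m ∈ M, m * m = 1 → m ∈ axis U a := by
    intro m hm hm2
    obtain ⟨e, he, hse⟩ := S.exists_line_of_twoFix h2 hm.1 hm.2
    have hcm : r * (r * m) = (r * m) * r := by
      rw [← mul_assoc, hr2, one_mul, hinv m hm, inv_eq_of_mul_eq_one_right hm2]
    have hcls := S.cls_eq_of_comm h2 hb he hr hr1 hse hm.2.2.1 hcm.symm
    obtain ⟨z, hz, w, hw, hzw⟩ :=
      mem_cls.1 (show r * m ∈ cls U a b by rw [hcls]; exact line_le_cls hse)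
    rcases (S.line_two h2 hb hne hb hr hr1).1 w hw with rfl | rfl
    · rw [mul_one] at hzw
      exact absurd (hzw ▸ hz) (S.line_not_axis h2 he hse hm.2.2.1)
    · have : m = z := mul_left_cancel (hzw.trans (hz.2.2 w hrU))
      exact this ▸ hz
  have hMn : ∀ u ∈ U a, ∀ m ∈ M, u * m * u⁻¹ ∈ M := by
    intro u hu m hm
    have h := S.twoFix_triple h2 hb hne hrU hTr (mul_mem (mul_mem hu hrU) (inv_mem hu)) (hTr.conj u)
      (mul_mem (mul_mem hu hm.1) (inv_mem hu)) (hm.2.conj u)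
    rw [show r * (u * r * u⁻¹) * (u * (r * m) * u⁻¹) = r * (u * ((r * r) * m) * u⁻¹) by group,
      hr2, one_mul] at h
    exact h
  have hsqc : ∀ u ∈ U a, ∀ m ∈ M, u * u * m = m * (u * u) := by
    intro u hu m hm
    have hm' := hMn u hu m hm
    have hd : u * m * u⁻¹ * m⁻¹ ∈ axis U a := by
      refine hMA _ (mul_mem hm' (inv_mem hm)) ?_
      have hc := hMc _ (inv_mem hm) _ hm'
      calc u * m * u⁻¹ * m⁻¹ * (u * m * u⁻¹ * m⁻¹)
          = u * m * u⁻¹ * (m⁻¹ * (u * m * u⁻¹)) * m⁻¹ := by group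
        _ = u * m * u⁻¹ * ((u * m * u⁻¹) * m⁻¹) * m⁻¹ := by rw [hc]
        _ = u * (m * m) * u⁻¹ * (m * m)⁻¹ := by group
        _ = 1 := by
          rw [← (hMsq m hm).2.2 u hu, mul_inv_cancel_right, mul_inv_cancel]
    set d := u * m * u⁻¹ * m⁻¹ with hddef
    have e : u * m * u⁻¹ = d * m := by rw [hddef]; group
    have e2 : (u * u) * m * (u * u)⁻¹ = m := by
      calc (u * u) * m * (u * u)⁻¹ = u * (u * m * u⁻¹) * u⁻¹ := by group
        _ = u * (d * m) * u⁻¹ := by rw [e]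
        _ = (u * d * u⁻¹) * (u * m * u⁻¹) := by group
        _ = m := by rw [← hd.2.2 u hu, mul_inv_cancel_right, e, ← mul_assoc, hd.2.1, one_mul]
    exact mul_inv_eq_iff_eq_mul.1 e2
  let C : Subgroup G := U a ⊓ Subgroup.centralizer (M : Set G)
  have hMC : M ≤ C := fun m hm => Subgroup.mem_inf.2 ⟨hMU m hm, Subgroup.mem_centralizer_iff.2
    fun m' hm' => hMc m' hm' m hm⟩
  have hCsq : ∀ u ∈ U a, u * u ∈ C := fun u hu =>
    Subgroup.mem_inf.2 ⟨mul_mem hu hu, Subgroup.mem_centralizer_iff.2 fun m hm => (hsqc u hu m hm).symm⟩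
  -- `r` does not centralise `M`
  have hrC : r ∉ C := by
    intro h
    obtain ⟨y, hy, hy1⟩ := S.exists_axis a
    obtain ⟨e, t, he, ht, ht1, hty⟩ := (S.line_two h2 hb hne hb hr hr1).2 y hy hy1
    have hm : r * t ∈ M := by
      show r * (r * t) ∈ U a ∧ TwoFix Ω (r * (r * t))
      rw [← mul_assoc, hr2, one_mul]
      exact ⟨ht.1, S.twoFix_of_line ht he (S.line_sq h2 he ht) ht1⟩
    have hc : (r * t) * r = r * (r * t) :=
      Subgroup.mem_centralizer_iff.1 (Subgroup.mem_inf.1 h).2 _ hm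
    rw [← mul_assoc r r t, hr2, one_mul] at hc
    refine hy1 ?_
    rw [← hty, show t * r * (t * r) = t * (r * t * r) by group, hc, S.line_sq h2 he ht]
  let 𝒮 : Set (Subgroup G) := {K | C ≤ K ∧ K ≤ U a ∧ r ∉ K}
  obtain ⟨K, hK⟩ := (Set.toFinite 𝒮).exists_maximal ⟨C, le_refl C, inf_le_left, hrC⟩
  obtain ⟨hCK, hKU, hrK⟩ := hK.1
  -- `K` has index two in `U a`
  have hKn : ∀ u ∈ U a, ∀ k ∈ K, u * k * u⁻¹ ∈ K := by
    intro u hu k hk
    have hkU := hKU hk
    have e : u * k * u⁻¹ =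
        ((u * k) * (u * k)) * k⁻¹ * (u⁻¹ * u⁻¹) := by group
    rw [e]
    exact mul_mem (mul_mem (hCK (hCsq _ (mul_mem hu hkU))) (inv_mem hk))
      (hCK (hCsq _ (inv_mem hu)))
  have hstep : ∀ u ∈ U a, u ∉ K → u * r ∈ K := by
    intro u hu huK
    have hu2 : u * u ∈ K := hCK (hCsq u hu)
    let K' : Subgroup G :=
      { carrier := {x | x ∈ K ∨ u * x ∈ K}
        one_mem' := Or.inl (one_mem _)
        mul_mem' := fun {x y} hx hy => by
          rcases hx with hx | hx <;> rcases hy with hy | hy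
          · exact Or.inl (mul_mem hx hy)
          · right
            have := mul_mem (hKn u hu x hx) hy
            rwa [show u * x * u⁻¹ * (u * y) = u * (x * y) by group] at this
          · right
            rw [← mul_assoc]
            exact mul_mem hx hy
          · left
            have h1 := mul_mem (mul_mem (hKn u⁻¹ (inv_mem hu) _ hx) (inv_mem hu2)) hy
            rwa [show u⁻¹ * (u * x) * u⁻¹⁻¹ * (u * u)⁻¹ * (u * y) = x * y by group] at h1
        inv_mem' := fun {x} hx => by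
          rcases hx with hx | hx
          · exact Or.inl (inv_mem hx)
          · right
            have h1 := mul_mem (hKn u hu _ (inv_mem hx)) hu2
            rwa [show u * (u * x)⁻¹ * u⁻¹ * (u * u) = u * x⁻¹ by group] at h1 }
    have hK'U : K' ≤ U a := by
      rintro x (hx | hx)
      · exact hKU hx
      · simpa using mul_mem (inv_mem hu) (hKU hx)
    have hKK' : K ≤ K' := fun x hx => Or.inl hx
    have huK' : u ∈ K' := Or.inr hu2
    have hrK' : r ∈ K' := by
      by_contra h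
      exact huK (hK.2 (show K' ∈ 𝒮 from ⟨hCK.trans hKK', hK'U, h⟩) hKK' huK')
    rcases hrK' with h | h
    · exact absurd h hrK
    · exact h
  have hidx : K.relIndex (U a) = 2 := by
    rw [Subgroup.relIndex, Subgroup.index_eq_two_iff]
    refine ⟨⟨r, hrU⟩, fun x => ?_⟩
    rcases x with ⟨x, hx⟩
    rw [Subgroup.mem_subgroupOf, Subgroup.mem_subgroupOf]
    change Xor' (x * r ∈ K) (x ∈ K)
    by_cases hxK : x ∈ K
    · exact Or.inr ⟨hxK, fun h => hrK (by simpa using mul_mem (inv_mem hxK) h)⟩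
    · exact Or.inl ⟨hstep x hx hxK, hxK⟩
  -- `U a` is a Sylow 2-subgroup
  obtain ⟨P, hP⟩ := (h2 a).exists_le_sylow
  have hPU : (P : Subgroup G) ≤ U a := by
    obtain ⟨c, hc⟩ := P.2.nonempty_fixed_point_of_prime_not_dvd_card Ω (fun h =>
      Nat.not_even_iff_odd.2 S.odd (even_iff_two_dvd.2 h))
    obtain ⟨z, hz, hz1⟩ := S.exists_axis a
    have hca : c = a := S.axis_free hz hz1 (hc ⟨z, hP hz.1⟩)
    intro x hx
    obtain ⟨k, hk⟩ := P.2 ⟨x, hx⟩
    exact S.two_mem a x k (hca ▸ hc ⟨x, hx⟩) (congrArg Subtype.val hk)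
  have hPeq : (P : Subgroup G) = U a := le_antisymm hPU hP
  have := S.simple
  rcases Cfsg.Agent.S0111.result P K (hPeq ▸ hKU) (hPeq ▸ hidx) r (orderOf_eq_prime (by rw [sq, hr2]) hr1)
    (hP hrU) hrK with ⟨N, hN, hN2, hrN⟩ | ⟨g, hg⟩
  · rcases hN.eq_bot_or_eq_top with rfl | rfl
    · rw [Subgroup.index_bot] at hN2
      have := S.two
      haveI : IsPretransitive G Ω := isPretransitive_of_is_two_pretransitive
      have hsurj : Function.Surjective (fun g : G => g • a) := fun c => exists_smul_eq G a c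
      have hle := Nat.card_le_card_of_surjective _ hsurj
      rw [hN2] at hle
      have := S.nontrivial
      have h1 : 1 < Nat.card Ω := Finite.one_lt_card
      obtain ⟨j, hj⟩ := S.odd
      omega
    · exact hrN (Subgroup.mem_top r)
  · have hgU := hKU hg
    have hT' := hTr.conj g
    have hm : r * (g * r * g⁻¹) ∈ M := by
      show r * (r * (g * r * g⁻¹)) ∈ U a ∧ TwoFix Ω (r * (r * (g * r * g⁻¹)))
      rw [← mul_assoc r r, hr2, one_mul]
      exact ⟨hgU, hT'⟩
    have h := mul_mem (hCK (hMC hm)) (inv_mem hg)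
    rw [mul_inv_cancel_right] at h
    exact hrK h

end Split

end Cfsg.Agent.Lib.BenderSuzuki.Wrappers
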