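import Cfsg.Agent.Lib.BenderSuzuki.Wrappers.Split
import Cfsg.Agent.Lib.ZStar.UniqueCase

/-!
# The section on the fixed points of `U a ⊓ G_b`

The axes have order at least four, and Suzuki's theorem applied to the normaliser of `U a ⊓ G_b`
acting on its fixed points shows that every `U c` is a 2-group.
-/

set_option autoImplicit false
set_option linter.style.haveILetI false

namespace Cfsg.Agent.Lib.BenderSuzuki.Wrappers

open MulAction

universe u v

variable {G : Type u} {Ω : Type v} [Group G] [MulAction G Ω] {U : Ω → Subgroup G}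

namespace Split

variable (S : Split G Ω U)
include S

theorem exists_second_axis [Finite G] {a : Ω} {z : G} (hz : z ∈ axis U a) (hz1 : z ≠ 1) :
    ∃ z' ∈ axis U a, z' ≠ 1 ∧ z' ≠ z := by
  by_contra hcon
  push Not at hcon
  have := S.simple
  have := S.two
  have := S.nontrivial
  haveI : IsPretransitive G Ω := isPretransitive_of_is_two_pretransitive
  have hord : orderOf z = 2 := orderOf_eq_prime (by rw [sq, hz.2.1]) hz1
  have hiso : ZStar.Reduction.Iso z := by
    refine ⟨hord, fun g => ?_⟩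
    rw [show z * g * z⁻¹ * g⁻¹ = z * (g * z * g⁻¹) by
      rw [inv_eq_of_mul_eq_one_right hz.2.1]; group]
    by_cases hga : g • a = a
    · have hm := S.axis_conj g hz
      rw [hga] at hm
      have he : g * z * g⁻¹ = z :=
        hcon _ hm (fun h => hz1 (by simpa [mul_inv_eq_one] using h))
      rw [he, hz.2.1, orderOf_one]
      exact odd_one
    · exact S.odd_orderOf_mul_axis (Ne.symm hga) hz hz1 (S.axis_conj g hz)
        (fun h => hz1 (by simpa [mul_inv_eq_one] using h))
  have hO : ∀ N : Subgroup G, N.Normal → Odd (Nat.card N) → N = ⊥ := by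
    intro N hN hodd
    rcases hN.eq_bot_or_eq_top with h | h
    · exact h
    · rw [h, Subgroup.card_top] at hodd
      exact absurd (even_iff_two_dvd.2 (hord ▸ orderOf_dvd_natCard z)) (Nat.not_even_iff_odd.2 hodd)
  have hc := Subgroup.mem_center_iff.1 (ZStar.UniqueCase.mem_center_of_iso hiso hO)
  obtain ⟨c, hca⟩ := exists_ne a
  obtain ⟨g, hg⟩ := exists_smul_eq G a c
  refine hca (S.axis_free hz hz1 ?_)
  rw [← hg, ← mul_smul, ← hc g, mul_smul, S.axis_fix hz]

/-- Every `U c` is a 2-group. -/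
theorem isPGroup_two [Finite G] (hmain : PropMain.{v, v}) (a : Ω) : IsPGroup 2 (U a) := by
  haveI := S.finiteOmega
  haveI : Fact (Nat.Prime 2) := ⟨Nat.prime_two⟩
  have := S.two
  have := S.nontrivial
  obtain ⟨b, hba⟩ := exists_ne a
  let Y : Subgroup G := U a ⊓ stabilizer G b
  let L : Set Ω := {c | ∀ y ∈ Y, y • c = c}
  have haL : a ∈ L := fun y hy => S.fix hy.1
  have hbL : b ∈ L := fun y hy => hy.2
  have haxis : ∀ c ∈ L, ∀ z ∈ axis U c, ∀ y ∈ Y, z * y = y * z :=
    fun c hc z hz y hy => S.commute_axis hy.1 (hc y hy) hz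
  let N : Subgroup G := Subgroup.normalizer (Y : Set G)
  have haxN : ∀ c ∈ L, axis U c ≤ N := by
    intro c hc z hz
    refine Subgroup.mem_normalizer_iff.2 fun y => ⟨fun hy => ?_, fun hy => ?_⟩
    · rwa [haxis c hc z hz y hy, mul_inv_cancel_right]
    · have h := haxis c hc z hz _ hy
      have e : z * y * z⁻¹ = y := by
        have h' : z * (z * y * z⁻¹) * z⁻¹ = z * y * z⁻¹ := by rw [h, mul_inv_cancel_right]
        calc z * y * z⁻¹ = z⁻¹ * (z * (z * y * z⁻¹) * z⁻¹) * z := by group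
          _ = z⁻¹ * (z * y * z⁻¹) * z := by rw [h']
          _ = y := by group
      rwa [e] at hy
  have hNL : ∀ g ∈ N, ∀ c ∈ L, g • c ∈ L := by
    intro g hg c hc y hy
    have h := hc (g⁻¹ * y * g) (by
      have := (Subgroup.mem_normalizer_iff.1 (N.inv_mem hg) y).1 hy
      rwa [inv_inv] at this)
    rw [mul_smul, mul_smul, inv_smul_eq_iff] at h
    exact h
  letI act : MulAction N L :=
    { smul := fun g c => ⟨(g : G) • (c : Ω), hNL g g.2 c c.2⟩
      one_smul := fun c => Subtype.ext (one_smul G (c : Ω))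
      mul_smul := fun g h c => Subtype.ext (mul_smul (g : G) (h : G) (c : Ω)) }
  let φ : N →* Equiv.Perm L := toPermHom N L
  let Γ : Subgroup (Equiv.Perm L) := φ.range
  have hφ : ∀ (g : N) (c : L), ((φ g c : L) : Ω) = (g : G) • (c : Ω) := fun g c => rfl
  -- transitivity
  have hfix : ∀ c ∈ L, ∃ x ∈ N, (∃ k, x ^ (2 ^ k) = 1) ∧ x • c = c ∧
      ∀ d : Ω, x • d = d → d = c := by
    intro c hc
    obtain ⟨z, hz, hz1⟩ := S.exists_axis c
    exact ⟨z, haxN c hc hz, ⟨1, by rw [pow_one, sq, hz.2.1]⟩, S.axis_fix hz,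
      fun d hd => S.axis_free hz hz1 hd⟩
  have htrans : ∀ c ∈ L, ∀ d ∈ L, ∃ g ∈ N, g • c = d := fun c hc d hd =>
    exists_smul_eq_of_fixers (p := 2) N L hfix hc hd
  have hUtrans : ∀ c ∈ L, ∀ d ∈ L, c ≠ a → d ≠ a → ∃ u ∈ N, u ∈ U a ∧ u • c = d := by
    have hb : ∀ d ∈ L, d ≠ a → ∃ u ∈ N, u ∈ U a ∧ u • b = d := by
      intro d hd hda
      obtain ⟨u, hu, rfl⟩ := S.trans a b d hba hda
      refine ⟨u, ?_, hu, rfl⟩
      have hle : ∀ y ∈ Y, u⁻¹ * y * u ∈ Y := fun y hy =>
        ⟨(U a).mul_mem ((U a).mul_mem ((U a).inv_mem hu) hy.1) hu,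
          by
            change (u⁻¹ * y * u) • b = b
            rw [mul_smul, mul_smul, hd y hy, inv_smul_smul]⟩
      let f : Y → Y := fun y => ⟨u⁻¹ * y * u, hle y y.2⟩
      have hf : Function.Surjective f :=
        (Finite.injective_iff_surjective).1 fun x y h => Subtype.ext (by
          simpa [f] using congrArg Subtype.val h)
      have hinv : u⁻¹ ∈ N := by
        refine Subgroup.mem_normalizer_iff.2 fun y => ?_
        rw [inv_inv]
        refine ⟨hle y, fun hy => ?_⟩
        obtain ⟨y', hy'⟩ := hf ⟨_, hy⟩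
        have : (y' : G) = y := by simpa [f] using congrArg Subtype.val hy'
        exact this ▸ y'.2
      simpa using N.inv_mem hinv
    intro c hc d hd hca hda
    obtain ⟨u, hu, huU, rfl⟩ := hb c hc hca
    obtain ⟨w, hw, hwU, rfl⟩ := hb d hd hda
    exact ⟨w * u⁻¹, N.mul_mem hw (N.inv_mem hu), (U a).mul_mem hwU ((U a).inv_mem huU),
      by rw [mul_smul, inv_smul_smul]⟩
  let a' : L := ⟨a, haL⟩
  obtain ⟨w, hw, hw1⟩ := S.exists_axis b
  let t : Γ := ⟨φ ⟨w, haxN b hbL hw⟩, ⟨_, rfl⟩⟩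
  have hwa : w • a ≠ a := fun h => hba (S.axis_free hw hw1 h).symm
  let Q : Subgroup Γ := ((U a).subgroupOf N).map φ.rangeRestrict
  let b' : L := ⟨w • a, hNL w (haxN b hbL hw) a haL⟩
  have hcase : ∀ g : N, (g : G) ∈ U a → (g : G) • (w • a) = w • a → φ.rangeRestrict g = 1 := by
    intro g hg hgb
    refine Subtype.ext (Equiv.ext fun c => Subtype.ext ?_)
    change (g : G) • (c : Ω) = c
    obtain ⟨u, hu, huU, hub⟩ := hUtrans b hbL (w • a) b'.2 hba hwa
    have hY : u⁻¹ * g * u ∈ Y :=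
      ⟨(U a).mul_mem ((U a).mul_mem ((U a).inv_mem huU) hg) huU, by
        change (u⁻¹ * g * u) • b = b
        rw [mul_smul, mul_smul, hub, hgb, ← hub, inv_smul_smul]⟩
    have hgY := (Subgroup.mem_normalizer_iff.1 hu _).1 hY
    rw [show u * (u⁻¹ * g * u) * u⁻¹ = (g : G) by group] at hgY
    exact c.2 _ hgY
  have hQmem : ∀ g : N, (g : G) ∈ U a → φ.rangeRestrict g ∈ Q := fun g hg =>
    Subgroup.mem_map_of_mem _ (Subgroup.mem_subgroupOf.2 hg)
  obtain ⟨z, hz, hz1⟩ := S.exists_axis a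
  obtain ⟨z', hz', hz1', hzz⟩ := S.exists_second_axis hz hz1
  have himg : ∀ x ∈ axis U a, x ≠ 1 → x • b ≠ b :=
    fun x hx hx1 h => hba (S.axis_free hx hx1 h)
  have hne : ∀ (x : G) (hx : x ∈ N), x • b ≠ b → φ.rangeRestrict ⟨x, hx⟩ ≠ 1 := by
    intro x hx hxb h
    exact hxb (congrArg Subtype.val (Equiv.congr_fun (congrArg Subtype.val h) ⟨b, hbL⟩))
  have hset : Cfsg.IsRankOneSetup Γ L a' t Q := by
    constructor
    · rw [is_two_pretransitive_iff]
      intro c d e f hcd hef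
      have step : ∀ c d : L, c ≠ d → ∃ g : Γ, g • c = a' ∧ g • d = b' := by
        intro c d hcd
        obtain ⟨g, hg, hgc⟩ := htrans c c.2 a haL
        have hgd : g • (d : Ω) ≠ a := fun h =>
          hcd (Subtype.ext (MulAction.injective g (hgc.trans h.symm)))
        obtain ⟨u, hu, huU, hud⟩ := hUtrans _ (hNL g hg d d.2) (w • a) b'.2 hgd hwa
        refine ⟨φ.rangeRestrict ⟨u * g, N.mul_mem hu hg⟩, Subtype.ext ?_, Subtype.ext ?_⟩
        · change (u * g) • (c : Ω) = a
          rw [mul_smul, hgc, S.fix huU]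
        · change (u * g) • (d : Ω) = w • a
          rw [mul_smul, hud]
      obtain ⟨g, hgc, hgd⟩ := step c d hcd
      obtain ⟨g', hg'e, hg'f⟩ := step e f hef
      exact ⟨g'⁻¹ * g, by rw [mul_smul, hgc, ← hg'e, inv_smul_smul],
        by rw [mul_smul, hgd, ← hg'f, inv_smul_smul]⟩
    · refine Subtype.ext ?_
      change φ ⟨w, _⟩ * φ ⟨w, _⟩ = 1
      rw [← map_mul, ← map_one φ]
      exact congrArg φ (Subtype.ext hw.2.1)
    · intro h
      exact hwa (congrArg Subtype.val (Equiv.congr_fun (congrArg Subtype.val h) a'))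
    · intro h
      exact hwa (congrArg Subtype.val (mem_stabilizer_iff.1 h))
    · rintro _ ⟨g, hg, rfl⟩
      exact Subtype.ext (S.fix (Subgroup.mem_subgroupOf.1 hg))
    · rintro ⟨_, g, rfl⟩ hh _ ⟨x, hx, rfl⟩
      have hga : (g : G) • a = a := congrArg Subtype.val (mem_stabilizer_iff.1 hh)
      have h := S.conj g a x (Subgroup.mem_subgroupOf.1 hx)
      rw [hga] at h
      have e : (⟨φ g, MonoidHom.mem_range.2 ⟨g, rfl⟩⟩ : Γ) = φ.rangeRestrict g := rfl
      rw [e, ← map_inv, ← map_mul, ← map_mul]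
      exact hQmem _ h
    · rw [eq_bot_iff]
      rintro x ⟨⟨g, hg, rfl⟩, hx⟩
      exact Subgroup.mem_bot.2 (hcase g (Subgroup.mem_subgroupOf.1 hg)
        (congrArg Subtype.val (mem_stabilizer_iff.1 hx)))
    · refine le_antisymm (sup_le ?_ inf_le_left) ?_
      · rintro _ ⟨g, hg, rfl⟩
        exact Subtype.ext (S.fix (Subgroup.mem_subgroupOf.1 hg))
      · rintro ⟨_, g, rfl⟩ hh
        have hga : (g : G) • a = a := congrArg Subtype.val (mem_stabilizer_iff.1 hh)
        have hgb : (g : G) • (w • a) ≠ a := fun h =>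
          hwa (MulAction.injective (g : G) (h.trans hga.symm))
        obtain ⟨u, hu, huU, hub⟩ := hUtrans (w • a) b'.2 _ (hNL g g.2 _ b'.2) hwa hgb
        have e : (⟨φ g, MonoidHom.mem_range.2 ⟨g, rfl⟩⟩ : Γ) =
            φ.rangeRestrict ⟨u, hu⟩ * φ.rangeRestrict (⟨u, hu⟩⁻¹ * g) := by
          rw [← map_mul, mul_inv_cancel_left]; rfl
        rw [e]
        refine Subgroup.mul_mem_sup (hQmem _ huU) ⟨?_, ?_⟩
        · refine Subtype.ext ?_
          change (u⁻¹ * g) • a = a
          rw [mul_smul, hga, inv_smul_eq_iff, S.fix huU]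
        · refine Subtype.ext ?_
          change (u⁻¹ * g) • (w • a) = w • a
          rw [mul_smul, ← hub, inv_smul_smul]
    · have hm := hQmem ⟨z, haxN a haL hz⟩ hz.1
      have ho : orderOf (φ.rangeRestrict ⟨z, haxN a haL hz⟩) = 2 :=
        orderOf_eq_prime (by
          rw [sq, ← map_mul, ← map_one φ.rangeRestrict]
          exact congrArg _ (Subtype.ext hz.2.1)) (hne z _ (himg z hz hz1))
      exact even_iff_two_dvd.2 (ho ▸ Subgroup.orderOf_dvd_natCard Q hm)
    · rw [← Nat.not_even_iff_odd]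
      intro hev
      obtain ⟨d, hd⟩ := exists_prime_orderOf_dvd_card' 2 (even_iff_two_dvd.1 hev)
      obtain ⟨⟨_, g, rfl⟩, hda, hdb⟩ := d
      replace hd : orderOf (φ.rangeRestrict g) = 2 := by
        rw [← Subgroup.orderOf_coe] at hd
        exact hd
      obtain ⟨j, m, hm2, hjm⟩ := Nat.exists_eq_pow_mul_and_not_dvd
        (orderOf_pos g).ne' 2 (by norm_num)
      have hga : (g : G) • a = a := congrArg Subtype.val (mem_stabilizer_iff.1 hda)
      have hgb : (g : G) • (w • a) = w • a := congrArg Subtype.val (mem_stabilizer_iff.1 hdb)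
      have hmodd : Odd m := Nat.odd_iff.2 (Nat.two_dvd_ne_zero.1 hm2)
      have hma : (g : G) ^ m • a = a := (stabilizer G a).pow_mem hga m
      have hmb : (g : G) ^ m • (w • a) = w • a := (stabilizer G (w • a)).pow_mem hgb m
      have hpow : ((g : G) ^ m) ^ (2 ^ j) = 1 := by
        rw [← pow_mul, mul_comm, ← hjm, ← Subgroup.coe_pow, pow_orderOf_eq_one]; rfl
      have h1 := hcase (g ^ m) (by
        rw [Subgroup.coe_pow]; exact S.two_mem a _ j hma hpow) (by rwa [Subgroup.coe_pow])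
      rw [map_pow] at h1
      have := orderOf_dvd_of_pow_eq_one h1
      rw [hd] at this
      exact absurd this hm2
  have hT : TwoRank Γ := by
    refine ⟨φ.rangeRestrict ⟨z, haxN a haL hz⟩, φ.rangeRestrict ⟨z', haxN a haL hz'⟩,
      hne z _ (himg z hz hz1), hne z' _ (himg z' hz' hz1'), fun h => ?_, ?_, ?_, ?_⟩
    · have h' : z • b = z' • b :=
        congrArg Subtype.val (Equiv.congr_fun (congrArg Subtype.val h) ⟨b, hbL⟩)
      refine himg (z⁻¹ * z') ((axis U a).mul_mem ((axis U a).inv_mem hz) hz')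
        (fun h1 => hzz (inv_mul_eq_one.1 h1).symm) ?_
      rw [mul_smul, ← h', inv_smul_smul]
    · rw [← map_mul, ← map_one φ.rangeRestrict]; exact congrArg _ (Subtype.ext hz.2.1)
    · rw [← map_mul, ← map_one φ.rangeRestrict]; exact congrArg _ (Subtype.ext hz'.2.1)
    · rw [← map_mul, ← map_mul]; exact congrArg _ (Subtype.ext (hz.2.2 z' hz'.1))
  obtain ⟨hQ2, -⟩ := hmain Γ L a' t Q ⟨hset, inferInstance, hT⟩
  rw [IsPGroup.iff_card]
  refine ⟨_, (Nat.eq_prime_pow_of_unique_prime_dvd Nat.card_pos.ne' fun {p} hp hpd => ?_)⟩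
  by_contra hp2
  haveI := Fact.mk hp
  obtain ⟨x, hx, hxo, hxc⟩ := KegelWielandt.exists_central (p := p) (S.nilp a) hpd
  have hxU : x ∈ U a := KegelWielandt.comp_le hx
  have hxN : x ∈ N := by
    refine Subgroup.mem_normalizer_iff.2 fun y => ⟨fun hy => ?_, fun hy => ?_⟩
    · rwa [← hxc y hy.1, mul_inv_cancel_right]
    · have h := hxc _ hy.1
      have e : x * y * x⁻¹ = y := by
        calc x * y * x⁻¹ = x⁻¹ * (x * (x * y * x⁻¹)) := by group
          _ = x⁻¹ * ((x * y * x⁻¹) * x) := by rw [h]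
          _ = y := by group
      rwa [e] at hy
  obtain ⟨k, hk⟩ := hQ2 ⟨_, hQmem ⟨x, hxN⟩ hxU⟩
  have hpow : φ.rangeRestrict (⟨x, hxN⟩ ^ (2 ^ k)) = 1 := by
    rw [map_pow]; exact congrArg Subtype.val hk
  have hxb : x ^ (2 ^ k) • b = b :=
    congrArg Subtype.val (Equiv.congr_fun (congrArg Subtype.val hpow) ⟨b, hbL⟩)
  have hx1 := S.free ((U a).pow_mem hxU (2 ^ k))
    (fun u hu => ((show Commute u x from hxc u hu).pow_right _).symm.eq) hba hxb
  have hd := orderOf_dvd_of_pow_eq_one hx1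
  rw [hxo] at hd
  exact hp2 ((Nat.prime_dvd_prime_iff_eq hp Nat.prime_two).1 (hp.dvd_of_dvd_pow hd))

end Split

end Cfsg.Agent.Lib.BenderSuzuki.Wrappers
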