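import Cfsg.Agent.Lib.BenderSuzuki.Wrappers.Regular
import Cfsg.Agent.Lib.BenderSuzuki.Wrappers.Cases

/-!
# A split rank-one family gives a set-up
-/

set_option autoImplicit false
set_option linter.style.haveILetI false

namespace Cfsg.Agent.Lib.BenderSuzuki.Wrappers

open MulAction

universe u v

variable {G : Type u} {Ω : Type v} [Group G] [MulAction G Ω] {U : Ω → Subgroup G}

namespace Split

theorem outcome [Finite G] (S : Split G Ω U) (hsec : PropMain.{v, v}) (hmain : PropMain.{u, v}) :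
    Outcome G := by
  haveI := S.simple
  have := S.two
  have := S.nontrivial
  haveI : Fact (Nat.Prime 2) := ⟨Nat.prime_two⟩
  haveI := S.faithful
  have h2 : ∀ e, IsPGroup 2 (U e) := S.isPGroup_two hsec
  obtain ⟨a⟩ := (inferInstance : Nonempty Ω)
  obtain ⟨b, hba⟩ := exists_ne a
  obtain ⟨t, ht, ht1⟩ := S.exists_axis b
  have hta : t • a ≠ a := fun h => hba (S.axis_free ht ht1 h).symm
  obtain ⟨z, hz, hz1⟩ := S.exists_axis a
  obtain ⟨z', hz', hz1', hzz⟩ := S.exists_second_axis hz hz1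
  refine outcome_of_simple hmain (a := a) (t := t) (Q := U a) ⟨⟨S.two, ht.2.1, ht1, ?_, S.le a, ?_,
    S.line_eq_bot h2 hta, ?_, S.even a, ?_⟩, S.faithful, ?_⟩
  · exact hta
  · intro g hg x hx
    simpa only [mem_stabilizer_iff.1 hg] using S.conj g a x hx
  · refine le_antisymm (sup_le (S.le a) inf_le_left) fun g hg => ?_
    have hga : g • a = a := hg
    obtain ⟨u, hu, hub⟩ := S.trans a (t • a) (g • t • a) hta (S.smul_ne hga hta)
    rw [show g = u * (u⁻¹ * g) by group]
    refine Subgroup.mul_mem_sup hu (Subgroup.mem_inf.2 ⟨?_, ?_⟩)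
    · rw [mem_stabilizer_iff, mul_smul, hga, inv_smul_eq_iff, S.fix hu]
    · rw [mem_stabilizer_iff, mul_smul, ← hub, inv_smul_smul]
  · rw [← Nat.not_even_iff_odd]
    intro hev
    obtain ⟨⟨d, hd⟩, hdo⟩ := exists_prime_orderOf_dvd_card' 2 (even_iff_two_dvd.1 hev)
    rw [Subgroup.orderOf_mk] at hdo
    obtain ⟨hda, hdb⟩ := Subgroup.mem_inf.1 hd
    have hd2 : d * d = 1 := by rw [← sq, ← hdo, pow_orderOf_eq_one]
    have hmem : d ∈ line U a (t • a) := Subgroup.mem_inf.2 ⟨S.invol_mem hd2 hda, hdb⟩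
    rw [S.line_eq_bot h2 hta, Subgroup.mem_bot] at hmem
    rw [hmem, orderOf_one] at hdo
    exact absurd hdo (by norm_num)
  · exact ⟨z, z', hz1, hz1', fun h => hzz h.symm, hz.2.1, hz'.2.1, hz.2.2 z' hz'.1⟩

end Split

end Cfsg.Agent.Lib.BenderSuzuki.Wrappers
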