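import Cfsg.Agent.Lib.BenderSuzuki.Interface
import Cfsg.Agent.Lib.KegelWielandt.Components
import Cfsg.Agent.Lib.CNGroup.Basic

/-!
# Split rank-one families

A doubly transitive simple group of odd degree with an equivariant family of nilpotent subgroups
`U c ≤ G_c`, each transitive on the other points and containing the 2-elements of `G_c`.  Nothing is
assumed about the intersections `U c ⊓ G_d`.
-/

set_option autoImplicit false
set_option linter.style.haveILetI false

namespace Cfsg.Agent.Lib.BenderSuzuki.Wrappers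

open MulAction

universe u v

/-- A split rank-one family. -/
structure Split (G : Type u) (Ω : Type v) [Group G] [MulAction G Ω] (U : Ω → Subgroup G) :
    Prop where
  two : IsMultiplyPretransitive G Ω 2
  faithful : FaithfulSMul G Ω
  simple : IsSimpleGroup G
  le : ∀ c, U c ≤ stabilizer G c
  conj : ∀ (g : G) (c : Ω) (x : G), x ∈ U c → g * x * g⁻¹ ∈ U (g • c)
  trans : ∀ a b c : Ω, b ≠ a → c ≠ a → ∃ u ∈ U a, u • b = c
  nilp : ∀ c, Group.IsNilpotent (U c)
  two_mem : ∀ (c : Ω) (x : G) (k : ℕ), x • c = c → x ^ (2 ^ k) = 1 → x ∈ U c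
  even : ∀ c, Even (Nat.card (U c))
  odd : Odd (Nat.card Ω)
  nontrivial : Nontrivial Ω

variable {G : Type u} {Ω : Type v} [Group G] [MulAction G Ω] {U : Ω → Subgroup G}

/-- The central elements of order at most two of `U c`. -/
def axis (U : Ω → Subgroup G) (c : Ω) : Subgroup G where
  carrier := {z | z ∈ U c ∧ z * z = 1 ∧ ∀ u ∈ U c, z * u = u * z}
  one_mem' := ⟨(U c).one_mem, one_mul 1, fun u _ => by rw [one_mul, mul_one]⟩
  mul_mem' := by
    rintro x y ⟨hx, hx2, hxc⟩ ⟨hy, hy2, hyc⟩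
    refine ⟨(U c).mul_mem hx hy, ?_, fun u hu => ?_⟩
    · rw [mul_assoc, ← mul_assoc y x y, ← hxc y hy, mul_assoc x y y, hy2, mul_one, hx2]
    · rw [mul_assoc, hyc u hu, ← mul_assoc, hxc u hu, mul_assoc]
  inv_mem' := by
    rintro x ⟨hx, hx2, hxc⟩
    rw [inv_eq_of_mul_eq_one_right hx2]
    exact ⟨hx, hx2, hxc⟩

theorem mem_axis {c : Ω} {z : G} :
    z ∈ axis U c ↔ z ∈ U c ∧ z * z = 1 ∧ ∀ u ∈ U c, z * u = u * z := Iff.rfl

/-- If every point of `L` is the only fixed point of some `p`-element of `X`, and `X` maps `L`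
into itself, then `X` is transitive on `L`. -/
theorem exists_smul_eq_of_fixers [Finite G] [Finite Ω] {p : ℕ} [Fact p.Prime] (X : Subgroup G)
    (L : Set Ω) (hL : ∀ c ∈ L, ∃ x ∈ X, (∃ k, x ^ (p ^ k) = 1) ∧ x • c = c ∧
      ∀ d : Ω, x • d = d → d = c) {c d : Ω} (hc : c ∈ L) (hd : d ∈ L) :
    ∃ g ∈ X, g • c = d := by
  by_contra hcon
  have cnt : ∀ e ∈ L, (Nat.card (orbit X c) : ℕ) ≡ Nat.card {y : orbit X c | (y : Ω) = e} [MOD p] := by
    intro e he
    obtain ⟨x, hxX, ⟨k, hk⟩, hxe, huniq⟩ := hL e he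
    have hp : IsPGroup p (Subgroup.zpowers (⟨x, hxX⟩ : X)) := by
      obtain ⟨j, -, hj⟩ := (Nat.dvd_prime_pow Fact.out).1
        (orderOf_dvd_of_pow_eq_one (show (⟨x, hxX⟩ : X) ^ (p ^ k) = 1 from Subtype.ext hk))
      exact IsPGroup.of_card (n := j) (by rw [Nat.card_zpowers, hj])
    have h := hp.card_modEq_card_fixedPoints (orbit X c)
    have hset : fixedPoints (Subgroup.zpowers (⟨x, hxX⟩ : X)) (orbit X c) =
        {y : orbit X c | (y : Ω) = e} := by
      ext y
      rw [mem_fixedPoints, Set.mem_setOf_eq]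
      constructor
      · intro hy
        exact huniq _ (congrArg Subtype.val (hy ⟨_, Subgroup.mem_zpowers _⟩))
      · rintro hy ⟨g, hg⟩
        have hx : (⟨x, hxX⟩ : X) ∈ stabilizer X y := by
          refine Subtype.ext ?_
          change x • (y : Ω) = (y : Ω)
          rw [hy, hxe]
        exact Subgroup.zpowers_le.2 hx hg
    rwa [hset] at h
  have h1 : Nat.card {y : orbit X c | (y : Ω) = c} = 1 := by
    rw [Nat.card_eq_one_iff_unique]
    exact ⟨⟨fun y z => Subtype.ext (Subtype.ext (y.2.trans z.2.symm))⟩,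
      ⟨⟨⟨c, mem_orbit_self c⟩, rfl⟩⟩⟩
  have h2 : Nat.card {y : orbit X c | (y : Ω) = d} = 0 := by
    rw [Nat.card_eq_zero]
    left
    refine ⟨fun y => hcon ?_⟩
    obtain ⟨⟨g, hg⟩, hgy⟩ := y.1.2
    exact ⟨g, hg, hgy.trans y.2⟩
  have h := (cnt c hc).symm.trans (cnt d hd)
  rw [h1, h2, Nat.ModEq, Nat.one_mod_eq_one.2 (Fact.out : p.Prime).ne_one, Nat.zero_mod] at h
  exact one_ne_zero h

namespace Split

variable (S : Split G Ω U)
include S

theorem fix {c : Ω} {x : G} (hx : x ∈ U c) : x • c = c := S.le c hx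

theorem eq_one {x : G} (h : ∀ c : Ω, x • c = c) : x = 1 :=
  S.faithful.eq_of_smul_eq_smul fun c => by rw [h c, one_smul]

theorem conj_iff (g : G) (c : Ω) (x : G) : g * x * g⁻¹ ∈ U (g • c) ↔ x ∈ U c := by
  refine ⟨fun h => ?_, S.conj g c x⟩
  have := S.conj g⁻¹ _ _ h
  rwa [inv_smul_smul, inv_inv, show g⁻¹ * (g * x * g⁻¹) * g = x by group] at this

theorem axis_conj {c : Ω} {z : G} (g : G) (hz : z ∈ axis U c) :
    g * z * g⁻¹ ∈ axis U (g • c) := by
  obtain ⟨h1, h2, h3⟩ := mem_axis.1 hz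
  refine mem_axis.2 ⟨S.conj g c z h1, ?_, fun u hu => ?_⟩
  · rw [show g * z * g⁻¹ * (g * z * g⁻¹) = g * (z * z) * g⁻¹ by group, h2]; group
  · have := h3 (g⁻¹ * u * g) ((S.conj_iff g c _).1 (by simpa [mul_assoc] using hu))
    calc g * z * g⁻¹ * u = g * (z * (g⁻¹ * u * g)) * g⁻¹ := by group
      _ = g * ((g⁻¹ * u * g) * z) * g⁻¹ := by rw [this]
      _ = u * (g * z * g⁻¹) := by group

/-- A central element of `U c` fixing another point is trivial. -/
theorem free {c d : Ω} {z : G} (hz : z ∈ U c) (hzc : ∀ u ∈ U c, z * u = u * z) (hd : d ≠ c)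
    (hfix : z • d = d) : z = 1 := by
  refine S.eq_one fun e => ?_
  by_cases he : e = c
  · rw [he, S.fix hz]
  · obtain ⟨u, hu, rfl⟩ := S.trans c d e hd he
    rw [← mul_smul, hzc u hu, mul_smul, hfix]

theorem axis_free {c d : Ω} {z : G} (hz : z ∈ axis U c) (h1 : z ≠ 1) (hfix : z • d = d) : d = c :=
  by_contra fun hd => h1 (S.free hz.1 hz.2.2 hd hfix)

theorem axis_fix {c : Ω} {z : G} (hz : z ∈ axis U c) : z • c = c := S.fix hz.1

theorem exists_axis [Finite G] (c : Ω) : ∃ z ∈ axis U c, z ≠ 1 := by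
  haveI := Fact.mk Nat.prime_two
  obtain ⟨z, hz, ho, hzc⟩ :=
    KegelWielandt.exists_central (p := 2) (S.nilp c) (even_iff_two_dvd.1 (S.even c))
  refine ⟨z, mem_axis.2 ⟨KegelWielandt.comp_le hz, ?_, fun u hu => (hzc u hu).symm⟩, fun h => ?_⟩
  · rw [← sq, ← ho, pow_orderOf_eq_one]
  · rw [h, orderOf_one] at ho; omega

theorem finiteOmega [Finite G] : Finite Ω := by
  have := S.two
  haveI : IsPretransitive G Ω := isPretransitive_of_is_two_pretransitive
  have := S.nontrivial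
  obtain ⟨a⟩ := (inferInstance : Nonempty Ω)
  exact Finite.of_surjective (fun g : G => g • a) fun c => exists_smul_eq G a c

/-- An element `y` of prime power order of `U a` fixing `c` centralises `axis U c`. -/
theorem commute_axis_of_primePow [Finite G] {p : ℕ} [Fact p.Prime] {a c : Ω} {y : G}
    (hy : y ∈ U a) (hc : y • c = c) {k : ℕ} (hk : y ^ (p ^ k) = 1) (hy1 : y ≠ 1) {z : G}
    (hz : z ∈ axis U c) : z * y = y * z := by
  haveI := S.finiteOmega
  have hpU : ∀ d : Ω, p ∣ Nat.card (U d) := by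
    intro d
    have := S.two
    haveI : IsPretransitive G Ω := isPretransitive_of_is_two_pretransitive
    obtain ⟨g, rfl⟩ := exists_smul_eq G a d
    have hy' := S.conj g a y hy
    obtain ⟨j, -, hj⟩ := (Nat.dvd_prime_pow Fact.out).1 (orderOf_dvd_of_pow_eq_one hk)
    have hj0 : j ≠ 0 := fun h => hy1 (orderOf_eq_one_iff.1 (by rw [hj, h, pow_zero]))
    have ho : orderOf (g * y * g⁻¹) = p ^ j := by
      rw [← hj, ← MulAut.conj_apply]; exact MulEquiv.orderOf_eq _ _
    exact ((dvd_pow_self p hj0).trans (ho.symm ▸ dvd_rfl)).trans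
      (Subgroup.orderOf_dvd_natCard _ hy')
  have hfix : ∀ d ∈ {d : Ω | y • d = d}, ∃ x ∈ Subgroup.centralizer ({y} : Set G),
      (∃ i, x ^ (p ^ i) = 1) ∧ x • d = d ∧ ∀ e : Ω, x • e = e → e = d := by
    intro d hd
    obtain ⟨x, hx, hxo, hxc⟩ := KegelWielandt.exists_central (p := p) (S.nilp d) (hpU d)
    -- the elements of order dividing `p` in the centre of `U d`, normalised by `y`
    let M : Subgroup G :=
      { carrier := {x | x ∈ U d ∧ x ^ p = 1 ∧ ∀ u ∈ U d, x * u = u * x}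
        one_mem' := ⟨(U d).one_mem, one_pow p, fun u _ => by rw [one_mul, mul_one]⟩
        mul_mem' := fun {x w} hx hw => ⟨(U d).mul_mem hx.1 hw.1,
          by rw [(show Commute x w from hx.2.2 w hw.1).mul_pow, hx.2.1, hw.2.1, mul_one],
          fun u hu => by rw [mul_assoc, hw.2.2 u hu, ← mul_assoc, hx.2.2 u hu, mul_assoc]⟩
        inv_mem' := fun {x} hx => ⟨(U d).inv_mem hx.1, by rw [inv_pow, hx.2.1, inv_one],
          fun u hu => (show Commute x u from hx.2.2 u hu).inv_left⟩ }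
    have hMy : ∀ g ∈ Subgroup.zpowers y, ∀ w ∈ M, g * w * g⁻¹ ∈ M := by
      intro g hg w hw
      have hgd : g • d = d := Subgroup.zpowers_le.2 (show y ∈ stabilizer G d from hd) hg
      refine ⟨by simpa [hgd] using S.conj g d w hw.1, ?_, fun u hu => ?_⟩
      · rw [conj_pow, hw.2.1, mul_one, mul_inv_cancel]
      · have hu' : g⁻¹ * u * g ∈ U d :=
          (S.conj_iff g d _).1 (by simpa [mul_assoc, hgd] using hu)
        calc g * w * g⁻¹ * u = g * (w * (g⁻¹ * u * g)) * g⁻¹ := by group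
          _ = g * ((g⁻¹ * u * g) * w) * g⁻¹ := by rw [hw.2.2 _ hu']
          _ = u * (g * w * g⁻¹) := by group
    letI act : MulAction (Subgroup.zpowers y) M :=
      { smul := fun g w => ⟨(g : G) * w * (g : G)⁻¹, hMy g g.2 w w.2⟩
        one_smul := fun w => Subtype.ext (by change (1 : G) * w * (1 : G)⁻¹ = w; simp)
        mul_smul := fun g h w => Subtype.ext (by
          change (g : G) * h * w * ((g : G) * h)⁻¹ = (g : G) * ((h : G) * w * (h : G)⁻¹) * (g : G)⁻¹
          group) }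
    have hp : IsPGroup p (Subgroup.zpowers y) := by
      obtain ⟨j, -, hj⟩ := (Nat.dvd_prime_pow Fact.out).1 (orderOf_dvd_of_pow_eq_one hk)
      exact IsPGroup.of_card (n := j) (by rw [Nat.card_zpowers, hj])
    have hxM : x ∈ M := ⟨KegelWielandt.comp_le hx, by rw [← hxo, pow_orderOf_eq_one],
      fun u hu => (hxc u hu).symm⟩
    have hdvd : p ∣ Nat.card M := hxo ▸ Subgroup.orderOf_dvd_natCard _ hxM
    have h1 : (1 : M) ∈ fixedPoints (Subgroup.zpowers y) M := fun g => Subtype.ext (by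
      change (g : G) * 1 * (g : G)⁻¹ = 1; simp)
    obtain ⟨w, hw, hw1⟩ := hp.exists_fixed_point_of_prime_dvd_card_of_fixed_point M hdvd h1
    have hwy : y * (w : G) * y⁻¹ = w :=
      congrArg Subtype.val (hw ⟨y, Subgroup.mem_zpowers y⟩)
    have hw1' : (w : G) ≠ 1 := fun h => hw1 (Subtype.ext h.symm)
    refine ⟨w, Subgroup.mem_centralizer_singleton_iff.2 ?_, ⟨1, by rw [pow_one]; exact w.2.2.1⟩,
      S.fix w.2.1, fun e he => by_contra fun hed => hw1' (S.free w.2.1 w.2.2.2 hed he)⟩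
    exact (mul_inv_eq_iff_eq_mul.1 hwy).symm
  obtain ⟨g, hg, hga⟩ := exists_smul_eq_of_fixers (p := p) _ _ hfix (c := a) (d := c)
    (S.fix hy) hc
  rw [Subgroup.mem_centralizer_singleton_iff] at hg
  have hw := S.axis_conj g⁻¹ hz
  rw [← hga, inv_smul_smul, inv_inv] at hw
  have h3 := hw.2.2 y hy
  calc z * y = g * ((g⁻¹ * z * g) * y) * g⁻¹ := by
        rw [show g * ((g⁻¹ * z * g) * y) * g⁻¹ = z * (g * y) * g⁻¹ by group, hg]; group
    _ = g * (y * (g⁻¹ * z * g)) * g⁻¹ := by rw [h3]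
    _ = y * z := by
        rw [show g * (y * (g⁻¹ * z * g)) * g⁻¹ = (g * y) * g⁻¹ * z by group, hg]; group

/-- Every element of `U a` centralises `axis U c` for each of its fixed points `c`. -/
theorem commute_axis [Finite G] {a c : Ω} {y : G} (hy : y ∈ U a) (hc : y • c = c) {z : G}
    (hz : z ∈ axis U c) : z * y = y * z := by
  let W : Subgroup G := U a ⊓ stabilizer G c
  have hW : W ≤ U a := inf_le_left
  have hWn : Group.IsNilpotent W := CNGroup.Basic.isNilpotent_mono hW (S.nilp a)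
  have h : W ≤ Subgroup.centralizer ({z} : Set G) := by
    refine KegelWielandt.le_of_comp_le hWn fun p hp _ x hx => ?_
    haveI := Fact.mk hp
    rw [Subgroup.mem_centralizer_singleton_iff]
    obtain ⟨k, hk⟩ := KegelWielandt.orderOf_mem_comp hx
    by_cases hx1 : x = 1
    · simp [hx1]
    exact (S.commute_axis_of_primePow (hW (KegelWielandt.comp_le hx))
      (KegelWielandt.comp_le hx).2 (by rw [← hk]; exact pow_orderOf_eq_one x) hx1 hz).symm
  exact (Subgroup.mem_centralizer_singleton_iff.1 (h ⟨hy, hc⟩)).symm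

theorem two_elem_mem {c d : Ω} {x : G} {k : ℕ} (hk : x ^ (2 ^ k) = 1) (hc : x • c = c)
    (hd : x • d = d) : x ∈ U c ∧ x ∈ U d :=
  ⟨S.two_mem c x k hc hk, S.two_mem d x k hd hk⟩

theorem invol_mem {c : Ω} {x : G} (hx : x * x = 1) (hc : x • c = c) : x ∈ U c :=
  S.two_mem c x 1 hc (by rw [pow_one, sq, hx])

theorem axis_comm_invol {c : Ω} {z x : G} (hz : z ∈ axis U c) (hx : x * x = 1) (hc : x • c = c) :
    z * x = x * z := hz.2.2 x (S.invol_mem hx hc)

theorem odd_orderOf_mul_axis [Finite G] {a c : Ω} {z z' : G} (hac : a ≠ c) (hz : z ∈ axis U a)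
    (hz1 : z ≠ 1) (hz' : z' ∈ axis U c) (hz1' : z' ≠ 1) : Odd (orderOf (z * z')) := by
  rw [← Nat.not_even_iff_odd]
  intro hev
  obtain ⟨j, hj⟩ := hev
  set v := z * z' with hv
  have hvinv : v⁻¹ = z' * z := by
    rw [hv, mul_inv_rev, inv_eq_of_mul_eq_one_right hz.2.1, inv_eq_of_mul_eq_one_right hz'.2.1]
  have hzv : z * v = v⁻¹ * z := by
    rw [hvinv, hv, ← mul_assoc, hz.2.1, one_mul, mul_assoc, hz.2.1, mul_one]
  have hsc : ∀ i : ℕ, z * v ^ i = (v ^ i)⁻¹ * z := by
    intro i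
    rw [← inv_pow]
    exact (show SemiconjBy z v v⁻¹ from hzv).pow_right i
  have hvz : ∀ i : ℕ, v ^ (2 * i) * z = v ^ i * z * (v ^ i)⁻¹ := by
    intro i
    have h := hsc i
    rw [mul_assoc, show z * (v ^ i)⁻¹ = v ^ i * z from ?_, ← mul_assoc, two_mul, pow_add]
    calc z * (v ^ i)⁻¹ = v ^ i * ((v ^ i)⁻¹ * z) * (v ^ i)⁻¹ := by group
      _ = v ^ i * z := by rw [← h]; group
  have hord : 0 < orderOf v := orderOf_pos v
  set w := v ^ j with hw
  have hw2 : w * w = 1 := by rw [hw, ← pow_add, ← hj, pow_orderOf_eq_one]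
  have hw1 : w ≠ 1 := pow_ne_one_of_lt_orderOf (by omega) (by omega)
  have hwz : z * w = w * z := by rw [hw, hsc, ← hw, inv_eq_of_mul_eq_one_right hw2]
  have hwz' : z' * w = w * z' := by
    have e : z' = z * v := by rw [hv, ← mul_assoc, hz.2.1, one_mul]
    have c1 : v * w = w * v := by rw [hw]; exact ((Commute.refl v).pow_right j).eq
    calc z' * w = z * (v * w) := by rw [e, mul_assoc]
      _ = w * (z * v) := by rw [c1, ← mul_assoc, hwz, mul_assoc]
      _ = w * z' := by rw [← e]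
  have hwa : w • a = a := S.axis_free hz hz1 (by rw [← mul_smul, hwz, mul_smul, S.axis_fix hz])
  have hwc : w • c = c := S.axis_free hz' hz1' (by rw [← mul_smul, hwz', mul_smul, S.axis_fix hz'])
  rcases Nat.even_or_odd' j with ⟨i, hi | hi⟩
  · have e : w * z = v ^ i * z * (v ^ i)⁻¹ := by rw [hw, hi, hvz]
    have hm := S.axis_conj (v ^ i) hz
    rw [← e] at hm
    by_cases hone : w * z = 1
    · have hwz1 : w = z := (mul_eq_one_iff_eq_inv.1 hone).trans (inv_eq_of_mul_eq_one_right hz.2.1)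
      exact hac (S.axis_free hz hz1 (by rwa [← hwz1])).symm
    have hpt : a = v ^ i • a := S.axis_free hm hone (by rw [mul_smul, S.axis_fix hz, hwa])
    rw [← hpt] at hm
    have hwA : w ∈ axis U a := by simpa using (axis U a).mul_mem hm ((axis U a).inv_mem hz)
    exact hac (S.axis_free hwA hw1 hwc).symm
  · -- `w * z'` is a conjugate of `z`
    have e : w * z' = v ^ i * z * (v ^ i)⁻¹ := by
      have c1 : v * z' = z := by rw [hv, mul_assoc, hz'.2.1, mul_one]
      rw [hw, hi, pow_succ, mul_assoc, c1, hvz]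
    have hm := S.axis_conj (v ^ i) hz
    rw [← e] at hm
    by_cases hone : w * z' = 1
    · have hwz1 : w = z' :=
        (mul_eq_one_iff_eq_inv.1 hone).trans (inv_eq_of_mul_eq_one_right hz'.2.1)
      exact hac (S.axis_free hz' hz1' (by rwa [← hwz1]))
    have hpt : c = v ^ i • a := S.axis_free hm hone (by rw [mul_smul, S.axis_fix hz', hwc])
    rw [← hpt] at hm
    have hwA : w ∈ axis U c := by simpa using (axis U c).mul_mem hm ((axis U c).inv_mem hz')
    exact hac (S.axis_free hwA hw1 hwa)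

end Split

end Cfsg.Agent.Lib.BenderSuzuki.Wrappers
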