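import Cfsg.Agent.Lib.BenderSuzuki.Wrappers.Cases
import Cfsg.Agent.Lib.BenderSuzuki.Wrappers.Rank

/-!
# S1222 and S1136 from the theorem
-/

set_option autoImplicit false
set_option linter.style.haveILetI false

namespace Cfsg.Agent.Lib.BenderSuzuki.Wrappers

open MulAction

universe u v

/-- The statement of S1136. -/
theorem rankOne_outcome (hmain : PropMain.{u, v}) {G : Type u} {Ω : Type v} [Group G] [Finite G]
    [MulAction G Ω] [FaithfulSMul G Ω] {a : Ω} {t : G} {Q : Subgroup G}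
    (hS : Cfsg.IsRankOneSetup G Ω a t Q)
    (h2 : ∃ x y : G, x ≠ 1 ∧ y ≠ 1 ∧ x ≠ y ∧ x * x = 1 ∧ y * y = 1 ∧ x * y = y * x) :
    ∃ L : Subgroup G, L.Normal ∧ Odd L.index ∧
      ((∃ (F : Type) (_ : Field F) (_ : Fintype F), (∃ n : ℕ, 2 ≤ n ∧ Fintype.card F = 2 ^ n) ∧
          Nonempty (L ≃* Matrix.ProjectiveSpecialLinearGroup (Fin 2) F)) ∨
        Cfsg.Lie.IsoSuzuki L ∨
        (∃ (F : Type) (_ : Field F) (_ : Fintype F) (n : ℕ), 2 ≤ n ∧ Fintype.card F = (2 ^ n) ^ 2 ∧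
          Nonempty (L ≃* Cfsg.PSU 3 F (2 ^ n)))) := by
  obtain ⟨L, hN, hodd, -, hout⟩ :=
    exists_normal_outcome (hmain G Ω a t Q ⟨hS, inferInstance, h2⟩)
  exact ⟨L, hN, hodd, hout⟩

/-- The statement of S1222. -/
theorem stronglyEmbedded_outcome (hmain : PropMain.{u, u}) {G : Type u} [Group G] [Finite G]
    [IsSimpleGroup G] (H : Subgroup G) (hH : Cfsg.IsStronglyEmbedded H) (Q : Subgroup G)
    (hQH : Q ≤ H) (hQn : (Q.subgroupOf H).Normal)
    (htrans : ∀ g₁ g₂ : G, g₁ ∉ H → g₂ ∉ H → ∃ u ∈ Q, g₂⁻¹ * (u * g₁) ∈ H)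
    (hreg : ∀ g : G, g ∉ H → ∀ u ∈ Q, g⁻¹ * (u * g) ∈ H → u = 1) :
    (∃ (F : Type) (_ : Field F) (_ : Fintype F), CharP F 2 ∧ 4 ≤ Fintype.card F ∧
        Nonempty (G ≃* Matrix.ProjectiveSpecialLinearGroup (Fin 2) F)) ∨
      Cfsg.IsSuzuki G ∨
      (∃ (F : Type) (_ : Field F) (_ : Fintype F) (q : ℕ), Fintype.card F = q ^ 2 ∧ Even q ∧ 4 ≤ q ∧
        Nonempty (G ≃* Cfsg.PSU 3 F q)) := by
  obtain ⟨hne, hev, hint⟩ := hH
  have hevenG : Even (Nat.card G) :=
    even_iff_two_dvd.2 ((even_iff_two_dvd.1 hev).trans (Subgroup.card_subgroup_dvd_card H))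
  -- an involution outside `H`
  obtain ⟨t, ht, htH⟩ : ∃ t : G, orderOf t = 2 ∧ t ∉ H := by
    by_contra hall
    push Not at hall
    obtain ⟨x, hx⟩ := exists_prime_orderOf_dvd_card' 2 (even_iff_two_dvd.1 hevenG)
    have hle : Subgroup.normalClosure ({x} : Set G) ≤ H := by
      refine (Subgroup.closure_le _).2 ?_
      intro y hy
      simp only [Group.mem_conjugatesOfSet_iff, Set.mem_singleton_iff, exists_eq_left] at hy
      obtain ⟨g, rfl⟩ := isConj_iff.1 hy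
      exact hall _ (by rw [← MulAut.conj_apply, MulEquiv.orderOf_eq, hx])
    rcases (Subgroup.normalClosure_normal (s := ({x} : Set G))).eq_bot_or_eq_top with h | h
    · have : x ∈ (⊥ : Subgroup G) := h ▸ Subgroup.subset_normalClosure (Set.mem_singleton x)
      rw [Subgroup.mem_bot] at this
      rw [this, orderOf_one] at hx
      exact absurd hx (by norm_num)
    · exact hne (top_le_iff.1 (h ▸ hle))
  have htt : t * t = 1 := by rw [← sq, ← ht, pow_orderOf_eq_one]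
  set a : G ⧸ H := ((1 : G) : G ⧸ H) with ha
  have hmk : ∀ g : G, g • a = (g : G ⧸ H) := fun g => by
    rw [ha, MulAction.Quotient.smul_mk, smul_eq_mul, mul_one]
  have hfixa : ∀ g : G, g • a = a ↔ g ∈ H := fun g => by
    rw [hmk, ha, QuotientGroup.eq, mul_one, inv_mem_iff]
  have hstab : stabilizer G a = H := by
    ext g
    exact mem_stabilizer_iff.trans (hfixa g)
  have hfixt : ∀ g : G, g • (t • a) = t • a ↔ t⁻¹ * (g * t) ∈ H := fun g => by
    rw [hmk, MulAction.Quotient.smul_mk, smul_eq_mul, QuotientGroup.eq, ← inv_mem_iff, mul_inv_rev,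
      inv_inv]
  have hQfix : ∀ u ∈ Q, u • a = a := fun u hu => (hfixa u).2 (hQH hu)
  -- `Q` is transitive on the other cosets
  have hQtr : ∀ c d : G ⧸ H, c ≠ a → d ≠ a → ∃ u ∈ Q, u • c = d := by
    intro c d hc hd
    obtain ⟨g₁, rfl⟩ := QuotientGroup.mk_surjective c
    obtain ⟨g₂, rfl⟩ := QuotientGroup.mk_surjective d
    rw [← hmk] at hc hd
    obtain ⟨u, hu, huH⟩ := htrans g₁ g₂ (fun h => hc ((hfixa g₁).2 h)) (fun h => hd ((hfixa g₂).2 h))
    exact ⟨u, hu, by rw [MulAction.Quotient.smul_mk, smul_eq_mul]; exact (QuotientGroup.eq.2 huH).symm⟩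
  have hta : t • a ≠ a := fun h => htH ((hfixa t).1 h)
  have hsup : ∀ g ∈ H, ∃ u ∈ Q, u⁻¹ * g ∈ stabilizer G a ⊓ stabilizer G (t • a) := by
    intro g hg
    have hga : g • a = a := (hfixa g).2 hg
    obtain ⟨u, hu, hub⟩ := hQtr (t • a) (g • t • a) hta
      fun h => hta (MulAction.injective g (h.trans hga.symm))
    refine ⟨u, hu, Subgroup.mem_inf.2 ⟨?_, ?_⟩⟩
    · rw [mem_stabilizer_iff, mul_smul, hga, inv_smul_eq_iff, hQfix u hu]
    · rw [mem_stabilizer_iff, mul_smul, ← hub, inv_smul_smul]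
  have hinf : Q ⊓ stabilizer G (t • a) = ⊥ := by
    rw [eq_bot_iff]
    rintro u ⟨hu, hut⟩
    exact Subgroup.mem_bot.2 (hreg t htH u hu ((hfixt u).1 hut))
  have hoddD : Odd (Nat.card ↥(stabilizer G a ⊓ stabilizer G (t • a))) := by
    have e : stabilizer G (t • a) = H.map (MulAut.conj t).toMonoidHom := by
      rw [stabilizer_smul_eq_stabilizer_map_conj, hstab]
    rw [hstab, e]
    exact hint t htH
  have hevQ : Even (Nat.card Q) := by
    set D := stabilizer G a ⊓ stabilizer G (t • a) with hD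
    let f : Q × D → H := fun p => ⟨(p.1 : G) * p.2, mul_mem (hQH p.1.2)
      (hstab ▸ (Subgroup.mem_inf.1 p.2.2).1)⟩
    have hf : Function.Bijective f := by
      constructor
      · rintro ⟨u, d⟩ ⟨u', d'⟩ h
        have h' : (u : G) * d = (u' : G) * d' := congrArg Subtype.val h
        have hmem : (u' : G)⁻¹ * u ∈ Q ⊓ stabilizer G (t • a) := by
          refine Subgroup.mem_inf.2 ⟨mul_mem (inv_mem u'.2) u.2, ?_⟩
          rw [show (u' : G)⁻¹ * u = (d' : G) * (d : G)⁻¹ by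
            rw [eq_mul_inv_iff_mul_eq, mul_assoc, h', inv_mul_cancel_left]]
          exact mul_mem (Subgroup.mem_inf.1 d'.2).2 (inv_mem (Subgroup.mem_inf.1 d.2).2)
        rw [hinf, Subgroup.mem_bot, inv_mul_eq_one] at hmem
        obtain rfl : u' = u := Subtype.ext hmem
        exact Prod.ext rfl (Subtype.ext (mul_left_cancel h'))
      · rintro ⟨g, hg⟩
        obtain ⟨u, hu, hd⟩ := hsup g hg
        exact ⟨(⟨u, hu⟩, ⟨u⁻¹ * g, hd⟩), Subtype.ext (mul_inv_cancel_left u g)⟩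
    have hc := Nat.card_eq_of_bijective f hf
    rw [Nat.card_prod] at hc
    rw [← hc, Nat.even_mul] at hev
    exact hev.resolve_right (Nat.not_even_iff_odd.2 hoddD)
  have hfaith : FaithfulSMul G (G ⧸ H) := by
    constructor
    intro g g' h
    have hcore : g⁻¹ * g' ∈ H.normalCore := by
      intro x
      have h' := h ((x⁻¹ : G) : G ⧸ H)
      have := QuotientGroup.eq.1 (show ((g * x⁻¹ : G) : G ⧸ H) = ((g' * x⁻¹ : G) : G ⧸ H) from h')
      rwa [show (g * x⁻¹)⁻¹ * (g' * x⁻¹) = x * (g⁻¹ * g') * x⁻¹ by group] at this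
    rcases (inferInstance : H.normalCore.Normal).eq_bot_or_eq_top with h1 | h1
    · rw [h1, Subgroup.mem_bot] at hcore
      exact inv_mul_eq_one.1 hcore
    · exact absurd (H.normalCore_le (h1 ▸ Subgroup.mem_top t)) htH
  have hrank : TwoRank G := by
    refine twoRank_of_simple hevenG ?_
    by_contra hc
    push Not at hc
    haveI : H.Normal := ⟨fun x hx g => by rw [hc g x, mul_inv_cancel_right]; exact hx⟩
    rcases (inferInstance : H.Normal).eq_bot_or_eq_top with rfl | h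
    · rw [Subgroup.card_bot] at hev
      exact absurd hev (by decide)
    · exact hne h
  have htwo : IsMultiplyPretransitive G (G ⧸ H) 2 := by
    rw [is_two_pretransitive_iff]
    have step : ∀ c d : G ⧸ H, c ≠ d → ∃ g : G, g • c = a ∧ g • d = t • a := by
      intro c d hcd
      obtain ⟨g, rfl⟩ := QuotientGroup.mk_surjective c
      have hgc : g⁻¹ • ((g : G) : G ⧸ H) = a := by rw [← hmk, inv_smul_smul]
      have hgd : g⁻¹ • d ≠ a := fun h => hcd (MulAction.injective g⁻¹ (hgc.trans h.symm))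
      obtain ⟨u, hu, hud⟩ := hQtr _ _ hgd hta
      exact ⟨u * g⁻¹, by rw [mul_smul, hgc, hQfix u hu], by rw [mul_smul, hud]⟩
    intro c d e f hcd hef
    obtain ⟨g, h1, h2⟩ := step c d hcd
    obtain ⟨g', h1', h2'⟩ := step e f hef
    exact ⟨g'⁻¹ * g, by rw [mul_smul, h1, ← h1', inv_smul_smul],
      by rw [mul_smul, h2, ← h2', inv_smul_smul]⟩
  have hyp : Hyp G (G ⧸ H) a t Q := by
    refine ⟨⟨htwo, htt, fun h => ?_, fun h => htH (hstab ▸ h), hstab.symm ▸ hQH, ?_, hinf, ?_, hevQ,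
      hoddD⟩, hfaith, hrank⟩
    · rw [h, orderOf_one] at ht
      exact absurd ht (by norm_num)
    · intro h hh x hx
      rw [hstab] at hh
      exact Subgroup.mem_subgroupOf.1 (hQn.conj_mem ⟨x, hQH hx⟩ (Subgroup.mem_subgroupOf.2 hx) ⟨h, hh⟩)
    · refine le_antisymm (sup_le (hstab.symm ▸ hQH) inf_le_left) fun g hg => ?_
      obtain ⟨u, hu, hd⟩ := hsup g (hstab ▸ hg)
      rw [show g = u * (u⁻¹ * g) by group]
      exact Subgroup.mul_mem_sup hu hd
  rcases outcome_of_simple hmain hyp with ⟨F, i1, i2, ⟨n, hn, hF⟩, h⟩ | h | ⟨F, i1, i2, n, hn, hF, h⟩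
  · haveI : Fact (Nat.Prime 2) := ⟨Nat.prime_two⟩
    refine Or.inl ⟨F, i1, i2, charP_of_card_eq_prime_pow hF, ?_, h⟩
    rw [hF]
    calc 4 = 2 ^ 2 := by norm_num
      _ ≤ 2 ^ n := Nat.pow_le_pow_right (by norm_num) hn
  · exact Or.inr (Or.inl (isSuzuki_of_iso h))
  · refine Or.inr (Or.inr ⟨F, i1, i2, 2 ^ n, hF, Nat.even_pow.2 ⟨even_two, by omega⟩, ?_, h⟩)
    calc 4 = 2 ^ 2 := by norm_num
      _ ≤ 2 ^ n := Nat.pow_le_pow_right (by norm_num) hn

end Cfsg.Agent.Lib.BenderSuzuki.Wrappers
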