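import Cfsg.Agent.Lib.BenderSuzuki.Wrappers.Classes

/-!
# Products of swappers

The products of two swappers of `a, b` fix no class but that of `b`; so `line U a b` fixes every
class and any two of the groups `cls U a c` normalise each other.
-/

set_option autoImplicit false
set_option linter.style.haveILetI false

namespace Cfsg.Agent.Lib.BenderSuzuki.Wrappers

open MulAction

universe u v

variable {G : Type u} {Ω : Type v} [Group G] [MulAction G Ω] {U : Ω → Subgroup G}

theorem eq_inv_of_odd_semiconj {l k : G} (hl : Odd (orderOf l)) (h : l * k * l⁻¹ = k⁻¹) :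
    k * k = 1 := by
  obtain ⟨j, hj⟩ := hl
  have h2 : Commute (l ^ 2) k := by
    have e : l ^ 2 * k * (l ^ 2)⁻¹ = k := by
      calc l ^ 2 * k * (l ^ 2)⁻¹ = l * (l * k * l⁻¹) * l⁻¹ := by rw [sq, mul_inv_rev]; group
        _ = l * k⁻¹ * l⁻¹ := by rw [h]
        _ = (l * k * l⁻¹)⁻¹ := by group
        _ = k := by rw [h, inv_inv]
    exact mul_inv_eq_iff_eq_mul.1 e
  have h3 : Commute l k := by
    have e : l = (l ^ 2) ^ (j + 1) := by
      rw [← pow_mul, show 2 * (j + 1) = (2 * j + 1) + 1 by ring, pow_succ, ← hj,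
        pow_orderOf_eq_one, one_mul]
    rw [e]
    exact h2.pow_left (j + 1)
  rw [h3.eq, mul_inv_cancel_right] at h
  nth_rw 1 [h]
  exact inv_mul_cancel k

namespace Split

variable (S : Split G Ω U)
include S

variable [Finite G] (h2 : ∀ e, IsPGroup 2 (U e))
include h2

/-- For a fixed axis element at `b` there is a swapper for each axis element at `a`. -/
theorem exists_swappers {a b : Ω} (hb : b ≠ a) : ∃ w : {x : axis U a // x ≠ 1} → G,
    Function.Injective w ∧ ∀ x, (∃ d, w x ∈ axis U d ∧ w x ≠ 1) ∧ w x • a = b ∧ w x • b = a ∧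
      ∀ s ∈ line U a b, s * w x = w x * s := by
  obtain ⟨z', hz', hz'1⟩ := S.exists_axis b
  choose w hw using fun x : {x : axis U a // x ≠ 1} =>
    S.exists_mid hb.symm x.1.2 (fun h => x.2 (Subtype.ext h)) hz' hz'1
  refine ⟨w, fun x y h => ?_, fun x => ?_⟩
  · obtain ⟨d, hd, -, hx, -⟩ := hw x
    obtain ⟨d', hd', -, hy, -⟩ := hw y
    rw [← h] at hy
    exact Subtype.ext (Subtype.ext (mul_left_cancel (mul_right_cancel (hx.trans hy.symm))))
  · obtain ⟨d, hd, hd1, -, hab, hcl⟩ := hw x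
    refine ⟨⟨d, hd, hd1⟩, hab, ?_, fun s hs => ?_⟩
    · rw [← hab, ← mul_smul, hd.2.1, one_smul]
    · have hle : Subgroup.closure ({((x.1 : axis U a) : G), z'} : Set G) ≤
          Subgroup.centralizer ({s} : Set G) := by
        rw [Subgroup.closure_le]
        rintro g (rfl | rfl)
        · exact Subgroup.mem_centralizer_singleton_iff.2 (x.1.2.2.2 s hs.1)
        · exact Subgroup.mem_centralizer_singleton_iff.2
            (hz'.2.2 s (S.line_le_other h2 hs))
      exact (Subgroup.mem_centralizer_singleton_iff.1 (hle hcl)).symm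

/-- A non-trivial product of two swappers fixes only the class of `b`. -/
theorem cls_eq_of_fixed {a b : Ω} (hb : b ≠ a) (hne : line U a b ≠ ⊥) {i j : G} {d d' : Ω}
    (hi : i ∈ axis U d) (hi1 : i ≠ 1) (hj : j ∈ axis U d') (hj1 : j ≠ 1) (hij : i ≠ j)
    (hia : i • a = b) (hib : i • b = a) (hja : j • a = b) (hjb : j • b = a)
    (hic : ∀ s ∈ line U a b, s * i = i * s) (hjc : ∀ s ∈ line U a b, s * j = j * s)
    {e : Ω} (he : e ≠ a) (hfix : cls U a ((i * j) • e) = cls U a e) :
    cls U a e = cls U a b := by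
  haveI := S.finiteOmega
  set k₀ := i * j with hk₀
  have hk₀a : k₀ • a = a := by rw [hk₀, mul_smul, hja, hib]
  have hdd : d ≠ d' := by
    rintro rfl
    refine hij (mul_eq_one_iff_eq_inv.1 ?_ |>.trans (inv_eq_of_mul_eq_one_right hj.2.1))
    by_contra h
    have had : a = d := S.axis_free (mul_mem hi hj) h hk₀a
    exact hb (hia.symm.trans (by rw [had, S.axis_fix hi]))
  have hodd := S.odd_orderOf_mul_axis hdd hi hi1 hj hj1
  have hk₀1 : orderOf k₀ ≠ 1 := fun h => hij
    ((mul_eq_one_iff_eq_inv.1 (orderOf_eq_one_iff.1 h)).trans (inv_eq_of_mul_eq_one_right hj.2.1))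
  obtain ⟨p, hp, hpd⟩ := Nat.exists_prime_and_dvd hk₀1
  haveI := Fact.mk hp
  have hp2 : p ≠ 2 := fun h =>
    Nat.not_even_iff_odd.2 hodd (even_iff_two_dvd.2 (h ▸ hpd))
  set n := orderOf k₀ / p with hn
  set k := k₀ ^ n with hk
  have hkp : orderOf k = p := by
    rw [hk, hn, orderOf_pow_orderOf_div (orderOf_pos k₀).ne' hpd]
  have hka : k • a = a := (stabilizer G a).pow_mem hk₀a n
  have hkb : k • b = b :=
    (stabilizer G b).pow_mem (show k₀ • b = b by rw [hk₀, mul_smul, hjb, hia]) n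
  have hkc : ∀ s ∈ line U a b, Commute s k := fun s hs =>
    ((show Commute s i from hic s hs).mul_right (hjc s hs)).pow_right n
  have hinv : i * k * i⁻¹ = k⁻¹ := by
    rw [hk, ← conj_pow, ← inv_pow]
    congr 1
    rw [hk₀, mul_inv_rev, inv_eq_of_mul_eq_one_right hi.2.1, inv_eq_of_mul_eq_one_right hj.2.1,
      ← mul_assoc, hi.2.1, one_mul]
  have hkk : k * k ≠ 1 := fun h => hp2 ((Nat.prime_dvd_prime_iff_eq hp Nat.prime_two).1
    (hkp ▸ orderOf_dvd_of_pow_eq_one (by rw [sq, h])))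
  -- `k` centralises no axis element
  have hkA : ∀ z ∈ axis U a, z * k = k * z → z = 1 := by
    intro z hz hzk
    by_contra hz1
    have hz' := S.axis_conj i hz
    rw [hia] at hz'
    have hz'1 : i * z * i⁻¹ ≠ 1 := fun h => hz1 (conj_eq_one_iff.1 h)
    have hz'k : Commute (i * z * i⁻¹) k := by
      have h1 : Commute (i * z * i⁻¹) k⁻¹ := by
        rw [← hinv]
        show i * z * i⁻¹ * (i * k * i⁻¹) = i * k * i⁻¹ * (i * z * i⁻¹)
        rw [show i * z * i⁻¹ * (i * k * i⁻¹) = i * (z * k) * i⁻¹ by group, hzk]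
        group
      simpa using h1.inv_right
    obtain ⟨m, dm, hm, hm1, hmz, hma, hmcl⟩ := S.exists_mid hb.symm hz hz1 hz' hz'1
    have hmk : Commute m k := by
      have hle : Subgroup.closure ({z, i * z * i⁻¹} : Set G) ≤
          Subgroup.centralizer ({k} : Set G) := by
        rw [Subgroup.closure_le]
        rintro g (rfl | rfl)
        · exact Subgroup.mem_centralizer_singleton_iff.2 hzk
        · exact Subgroup.mem_centralizer_singleton_iff.2 hz'k.eq
      exact Subgroup.mem_centralizer_singleton_iff.1 (hle hmcl)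
    by_cases hdm : d = dm
    · subst hdm
      have hmb : m • b = a := by rw [← hma, ← mul_smul, hm.2.1, one_smul]
      have him : i = m := by
        refine mul_eq_one_iff_eq_inv.1 ?_ |>.trans (inv_eq_of_mul_eq_one_right hm.2.1)
        by_contra h
        have had : a = d := S.axis_free (mul_mem hi hm) h (by rw [mul_smul, hma, hib])
        exact hb (hia.symm.trans (by rw [had, S.axis_fix hi]))
      rw [← him] at hmk
      rw [hmk.eq, mul_inv_cancel_right] at hinv
      exact hkk (by nth_rw 1 [hinv]; exact inv_mul_cancel k)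
    · refine hkk (eq_inv_of_odd_semiconj (S.odd_orderOf_mul_axis hdm hi hi1 hm hm1) ?_)
      calc i * m * k * (i * m)⁻¹ = i * ((m * k) * m⁻¹) * i⁻¹ := by group
        _ = i * k * i⁻¹ := by rw [hmk.eq, mul_inv_cancel_right]
        _ = k⁻¹ := hinv
  -- the centraliser of `k` in `U a`
  have hCk : ∀ u ∈ U a, Commute u k → u ∈ line U a b := by
    let C : Subgroup G := U a ⊓ Subgroup.centralizer ({k} : Set G)
    have hC2 : IsPGroup 2 C := (h2 a).to_le inf_le_left
    haveI : Fact (Nat.Prime 2) := ⟨Nat.prime_two⟩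
    haveI := hC2.isNilpotent
    have hRC : line U a b ≤ C := fun s hs =>
      Subgroup.mem_inf.2 ⟨hs.1, Subgroup.mem_centralizer_singleton_iff.2 (hkc s hs).eq⟩
    suffices h : (line U a b).subgroupOf C = ⊤ by
      intro u hu huk
      have : (⟨u, Subgroup.mem_inf.2 ⟨hu, Subgroup.mem_centralizer_singleton_iff.2 huk.eq⟩⟩ : C) ∈
          (line U a b).subgroupOf C := by rw [h]; exact Subgroup.mem_top _
      exact this
    by_contra htop
    obtain ⟨⟨u, huC⟩, hu, hu'⟩ := SetLike.exists_of_lt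
      (Group.normalizerCondition_of_isNilpotent _ (lt_top_iff_ne_top.2 htop))
    obtain ⟨r, hr, hr2, hr1⟩ := S.exists_line_invol_of h2 hb hne hb
    have huU : u ∈ U a := (Subgroup.mem_inf.1 huC).1
    have huk : Commute u k :=
      Subgroup.mem_centralizer_singleton_iff.1 (Subgroup.mem_inf.1 huC).2
    have hr' : u⁻¹ * r * u ∈ line U a b := by
      have := (Subgroup.mem_normalizer_iff.1 (inv_mem hu) ⟨r, hRC hr⟩).1
        (Subgroup.mem_subgroupOf.2 hr)
      simpa [Subgroup.mem_subgroupOf] using this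
    obtain ⟨z, hz, s, hs, hus⟩ := mem_cls.1 (S.mem_cls_of_fix h2 hr hr2 hr1 hb huU (by
      have h1 : (u⁻¹ * r * u) • b = b := hr'.2
      rwa [mul_smul, mul_smul, inv_smul_eq_iff] at h1))
    have hzk : z * k = k * z := by
      have e : z = u * s⁻¹ := by rw [hus]; group
      rw [e]
      exact (huk.mul_left (hkc s hs).inv_left).eq
    rw [hkA z hz hzk, one_mul] at hus
    exact hu' (Subgroup.mem_subgroupOf.2 (hus ▸ hs))
  -- `k` fixes the class of `e`
  have hkE : cls U a (k • e) = cls U a e := by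
    rw [hk]
    generalize n = m
    induction m with
    | zero => rw [pow_zero, one_smul]
    | succ m ih =>
      rw [pow_succ', mul_smul, S.cls_smul_congr hk₀a ih, hfix]
  have hzk : ∀ g ∈ Subgroup.zpowers k, g • a = a := fun g hg =>
    Subgroup.zpowers_le.2 (show k ∈ stabilizer G a from hka) hg
  have hP : IsPGroup p (Subgroup.zpowers k) :=
    IsPGroup.of_card (n := 1) (by rw [Nat.card_zpowers, hkp, pow_one])
  let X := {x : Ω // x ≠ a ∧ cls U a x = cls U a e}
  have hX : ∀ g ∈ Subgroup.zpowers k, ∀ x : X, g • (x : Ω) ≠ a ∧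
      cls U a (g • (x : Ω)) = cls U a e := by
    intro g hg x
    refine ⟨S.smul_ne (hzk g hg) x.2.1, (S.cls_smul_congr (hzk g hg) x.2.2).trans ?_⟩
    obtain ⟨m, rfl⟩ := (mem_powers_iff_mem_zpowers.2 hg)
    dsimp only
    clear hg
    induction m with
    | zero => rw [pow_zero, one_smul]
    | succ m ih =>
      rw [pow_succ', mul_smul, S.cls_smul_congr hka ih, hkE]
  letI actX : MulAction (Subgroup.zpowers k) X :=
    { smul := fun g x => ⟨(g : G) • (x : Ω), hX g g.2 x⟩
      one_smul := fun x => Subtype.ext (one_smul G (x : Ω))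
      mul_smul := fun g h x => Subtype.ext (mul_smul (g : G) (h : G) (x : Ω)) }
  obtain ⟨qe, hqe⟩ : ∃ qe, Nat.card (axis U a) = 2 ^ qe := by
    haveI : Fact (Nat.Prime 2) := ⟨Nat.prime_two⟩
    exact IsPGroup.iff_card.1 ((h2 a).to_le fun z (hz : z ∈ axis U a) => hz.1)
  have hndvd : ∀ m, ¬ p ∣ 2 ^ m := fun m h =>
    hp2 ((Nat.prime_dvd_prime_iff_eq hp Nat.prime_two).1 (hp.dvd_of_dvd_pow h))
  obtain ⟨⟨e', he'a, he'⟩, hfe⟩ := hP.nonempty_fixed_point_of_prime_not_dvd_card X (by
    change ¬ p ∣ Nat.card {x : Ω // x ≠ a ∧ cls U a x = cls U a e}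
    rw [S.card_class h2 hb hne he, hqe, ← pow_mul]
    exact hndvd _)
  have hke' : k • e' = e' := congrArg Subtype.val (hfe ⟨k, Subgroup.mem_zpowers k⟩)
  -- a translation `b ↦ e'` commuting with `k`
  obtain ⟨u₀, hu₀, hu₀b⟩ := S.trans a b e' hb he'a
  let Y := {x : G // x ∈ U a ∧ x • b = e'}
  have hY : ∀ g ∈ Subgroup.zpowers k, ∀ x : Y, g * x.1 * g⁻¹ ∈ U a ∧ (g * x.1 * g⁻¹) • b = e' := by
    intro g hg x
    have hgb : g • b = b := Subgroup.zpowers_le.2 (show k ∈ stabilizer G b from hkb) hg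
    have hge : g • e' = e' := Subgroup.zpowers_le.2 (show k ∈ stabilizer G e' from hke') hg
    refine ⟨by simpa only [hzk g hg] using S.conj g a x.1 x.2.1, ?_⟩
    rw [mul_smul, mul_smul, show g⁻¹ • b = b from inv_smul_eq_iff.2 hgb.symm, x.2.2, hge]
  letI actY : MulAction (Subgroup.zpowers k) Y :=
    { smul := fun g x => ⟨(g : G) * x.1 * (g : G)⁻¹, hY g g.2 x⟩
      one_smul := fun x => Subtype.ext (by change (1 : G) * x.1 * (1 : G)⁻¹ = x.1; simp)
      mul_smul := fun g h x => Subtype.ext (by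
        change (g : G) * h * x.1 * ((g : G) * h)⁻¹ = (g : G) * ((h : G) * x.1 * (h : G)⁻¹) * (g : G)⁻¹
        group) }
  have hcardY : Nat.card Y = Nat.card (line U a b) := by
    refine Nat.card_congr
      { toFun := fun x => ⟨u₀⁻¹ * x.1, Subgroup.mem_inf.2 ⟨mul_mem (inv_mem hu₀) x.2.1,
          show (u₀⁻¹ * x.1) • b = b by rw [mul_smul, x.2.2, ← hu₀b, inv_smul_smul]⟩⟩
        invFun := fun s => ⟨u₀ * (s : G), mul_mem hu₀ s.2.1, by
          rw [mul_smul, show (s : G) • b = b from s.2.2, hu₀b]⟩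
        left_inv := fun x => Subtype.ext (mul_inv_cancel_left u₀ x.1)
        right_inv := fun s => Subtype.ext (inv_mul_cancel_left u₀ (s : G)) }
  obtain ⟨⟨u, hu, hub⟩, hfu⟩ := hP.nonempty_fixed_point_of_prime_not_dvd_card Y (by
    rw [hcardY]
    haveI : Fact (Nat.Prime 2) := ⟨Nat.prime_two⟩
    obtain ⟨m, hm⟩ := IsPGroup.iff_card.1 ((h2 a).to_le (inf_le_left : line U a b ≤ U a))
    rw [hm]
    exact hndvd m)
  have huk : Commute u k :=
    (mul_inv_eq_iff_eq_mul.1 (congrArg Subtype.val (hfu ⟨k, Subgroup.mem_zpowers k⟩))).symm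
  have hbe : e' = b := hub.symm.trans (hCk u hu huk).2
  rw [← he', hbe]

/-- Two groups `cls U a c` normalise each other. -/
theorem cls_conj_mem {a c c' : Ω} (hc : c ≠ a) (hne : line U a c ≠ ⊥) (hc' : c' ≠ a) {s x : G}
    (hs : s ∈ cls U a c) (hx : x ∈ cls U a c') : s * x * s⁻¹ ∈ cls U a c' := by
  haveI := S.finiteOmega
  obtain ⟨z, hz, r, hr, rfl⟩ := mem_cls.1 hs
  suffices h : cls U a (r • c') = cls U a c' by
    have hy := S.cls_conj (S.fix hr.1) hx
    rw [h] at hy
    rw [show z * r * x * (z * r)⁻¹ = z * (r * x * r⁻¹) * z⁻¹ by group,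
      hz.2.2 _ (cls_le hy), mul_inv_cancel_right]
    exact hy
  have hra : r • a = a := S.fix hr.1
  have hr2 : r * r = 1 := S.line_sq h2 hc hr
  -- the other classes
  obtain ⟨w, hwi, hw⟩ := S.exists_swappers h2 hc
  obtain ⟨z₀, hz₀, hz₀1⟩ := S.exists_axis a
  set x₀ : {x : axis U a // x ≠ 1} := ⟨⟨z₀, hz₀⟩, fun h => hz₀1 (congrArg Subtype.val h)⟩
  have hka : ∀ y, (w y * w x₀) • a = a := fun y => by rw [mul_smul, (hw x₀).2.1, (hw y).2.2.1]
  have hkc : ∀ y, (w y * w x₀) • c = c := fun y => by rw [mul_smul, (hw x₀).2.2.1, (hw y).2.1]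
  have hkr : ∀ y, Commute r (w y * w x₀) := fun y =>
    (show Commute r (w y) from (hw y).2.2.2 r hr).mul_right ((hw x₀).2.2.2 r hr)
  have hw0 : w x₀ * w x₀ = 1 := by
    obtain ⟨d, hd, -⟩ := (hw x₀).1
    exact hd.2.1
  let 𝒦 : Set (Subgroup G) := (fun e => cls U a e) '' {e : Ω | e ≠ a}
  let 𝒦' := {E : Subgroup G // E ∈ 𝒦 \ {cls U a c}}
  have hcard : Nat.card 𝒦' = Nat.card (axis U a) - 1 := by
    rw [← S.card_classes h2 hc hne]
    exact (Nat.card_coe_set_eq _).trans
      (Set.ncard_sdiff_singleton_of_mem ⟨c, hc, rfl⟩)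
  have hmem : ∀ {g : G}, g • a = a → g • c = c → ∀ {e : Ω}, e ≠ a → cls U a e ≠ cls U a c →
      cls U a (g • e) ∈ 𝒦 \ {cls U a c} := by
    intro g hga hgc e he hne'
    refine ⟨⟨_, S.smul_ne hga he, rfl⟩, fun h => hne' ?_⟩
    have h' : cls U a (g • e) = cls U a (g • c) := by rw [hgc]; exact h
    simpa using S.cls_smul_congr (inv_smul_eq_iff.2 hga.symm) h'
  have key : ∀ e, e ≠ a → cls U a e ≠ cls U a c → ∀ E : 𝒦', ∃ y,
      cls U a ((w y * w x₀) • e) = E.1 := by
    intro e he hne' E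
    let f : {x : axis U a // x ≠ 1} → 𝒦' :=
      fun y => ⟨_, hmem (hka y) (hkc y) he hne'⟩
    have hf : Function.Injective f := by
      intro y y' h
      have h' : cls U a ((w y * w x₀) • e) = cls U a ((w y' * w x₀) • e) := congrArg Subtype.val h
      by_contra hyy
      obtain ⟨d, hd, hd1⟩ := (hw y).1
      obtain ⟨d', hd', hd'1⟩ := (hw y').1
      have e2 : (w y * w y') • ((w y' * w x₀) • e) = (w y * w x₀) • e := by
        rw [← mul_smul, show w y * w y' * (w y' * w x₀) = w y * (w y' * w y') * w x₀ by group,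
          hd'.2.1, mul_one]
      have := S.cls_eq_of_fixed h2 hc hne hd hd1 hd' hd'1 (fun h => hyy (hwi h)) (hw y).2.1
        (hw y).2.2.1 (hw y').2.1 (hw y').2.2.1 (hw y).2.2.2 (hw y').2.2.2
        (S.smul_ne (hka y') he) (by rw [e2]; exact h')
      exact (hmem (hka y') (hkc y') he hne').2 this
    have hle : Nat.card 𝒦' ≤ Nat.card {x : axis U a // x ≠ 1} := by
      classical
      haveI : Fintype (axis U a) := Fintype.ofFinite _
      rw [hcard, Nat.card_eq_fintype_card, Nat.card_eq_fintype_card, Fintype.card_subtype_compl,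
        Fintype.card_subtype_eq]
    obtain ⟨y, hy⟩ := (Function.Injective.bijective_of_nat_card_le hf hle).2 E
    exact ⟨y, congrArg Subtype.val hy⟩
  by_cases hcc : cls U a c' = cls U a c
  · have h1 := S.cls_smul_congr hra hcc
    rwa [show r • c = c from hr.2, ← hcc] at h1
  -- a fixed class
  choose rep hrep hrepE using fun E : 𝒦' => E.2.1
  have hrepne : ∀ E, cls U a (rep E) ≠ cls U a c := fun E h => E.2.2 ((hrepE E).symm.trans h)
  let ρ : 𝒦' → 𝒦' := fun E => ⟨_, hmem hra hr.2 (hrep E) (hrepne E)⟩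
  have hρ : Function.Involutive ρ := by
    intro E
    refine Subtype.ext ?_
    change cls U a (r • rep (ρ E)) = E.1
    rw [S.cls_smul_congr hra (show cls U a (rep (ρ E)) = cls U a (r • rep E) from hrepE (ρ E)),
      ← mul_smul, hr2, one_smul]
    exact hrepE E
  obtain ⟨E₀, hE₀⟩ : ∃ E₀, ρ E₀ = E₀ := by
    classical
    haveI : Fintype 𝒦' := Fintype.ofFinite _
    obtain ⟨m, hm⟩ : ∃ m, Nat.card (axis U a) = 2 ^ m := by
      haveI : Fact (Nat.Prime 2) := ⟨Nat.prime_two⟩
      exact IsPGroup.iff_card.1 ((h2 a).to_le fun z (hz : z ∈ axis U a) => hz.1)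
    have hodd : ¬ 2 ∣ Fintype.card 𝒦' := by
      rw [← Nat.card_eq_fintype_card, hcard, hm]
      have hq := S.three_le_card_axis a
      have hev : Even (2 ^ m) := Nat.even_pow.2 ⟨even_two, fun h => by
        rw [hm, h] at hq; norm_num at hq⟩
      obtain ⟨l, hl⟩ := hev
      omega
    haveI : Fact (Nat.Prime 2) := ⟨Nat.prime_two⟩
    obtain ⟨E₀, hE₀⟩ := Equiv.Perm.exists_fixed_point_of_prime (p := 2) (n := 1) hodd
      (σ := hρ.toPerm ρ) (Equiv.ext fun x => by simp [sq, Equiv.Perm.mul_apply, hρ x])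
    exact ⟨E₀, hE₀⟩
  have h0 : cls U a (r • rep E₀) = cls U a (rep E₀) :=
    (congrArg Subtype.val hE₀).trans (hrepE E₀).symm
  obtain ⟨y, hy⟩ := key (rep E₀) (hrep E₀) (hrepne E₀) ⟨cls U a c', ⟨c', hc', rfl⟩, hcc⟩
  have hy' : cls U a c' = cls U a ((w y * w x₀) • rep E₀) := hy.symm
  rw [S.cls_smul_congr hra hy', ← mul_smul, (hkr y).eq, mul_smul, S.cls_smul_congr (hka y) h0, hy]

end Split

end Cfsg.Agent.Lib.BenderSuzuki.Wrappers
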